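import Mathlib
import Cfsg.Agent.Lib.Fi24Type47.Cert
import Cfsg.Agent.Lib.Golay.Code
import Cfsg.Agent.Lib.Fi24Thompson95.Data

/-!
Kernel checks on the codes: the orbit trees, the sizes, the arithmetic, and the duads.
-/

set_option autoImplicit false

namespace Cfsg.Agent.Lib.Fi24Thompson95

open Cfsg.Agent.Lib
open Cfsg.Agent.Lib.Fi24Type47 (ap mulM getE nuM fixK clN kL idM wordEl)

/-- The number of nonzero coordinates of a code. -/
def wtN (n : ℕ) : ℕ :=
  ((List.range 6).filter fun j => !(n / 4 ^ j % 4 == 0)).length

/-- The commutation form on codes. -/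
def bN (u v : ℕ) : ℕ := (wtN (u ^^^ v) + wtN u + wtN v) % 2

/-- The matrix acting for a coset. -/
def kC (c : ℕ) : List ℕ := getE (kCIdx.getD c 0)

/-- The movement of a vector by a coset. -/
def dC (c v : ℕ) : ℕ := v ^^^ ap (kC c) v

/-- The central part of a translation. -/
def phC (c v : ℕ) : ℕ := bN v (dC c (ap nuM v))

/-- The vector with a given number among the fixed vectors. -/
def wX (i : ℕ) : ℕ := fixK.getD i 0

/-- The code of an element: coset, vector, central bit. -/
def cod (c w e : ℕ) : ℕ := c + 16 * fixK.idxOf w + 1024 * e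

/-- The generators: twelve translations and `ν`. -/
def step (g n : ℕ) : ℕ :=
  if g < 12 then
    cod (n % 16) (wX (n / 16 % 64) ^^^ dC (n % 16) (2 ^ g))
      ((n / 1024 + phC (n % 16) (2 ^ g) + bN (2 ^ g) (wX (n / 16 % 64))) % 2)
  else cod (n % 16) (ap nuM (wX (n / 16 % 64))) (n / 1024)

/-- The entry of the orbit tree. -/
def treeT (n : ℕ) : ℕ := (treeL.getD (n % 16) []).getD (n / 16) 0

/-- The depth in the tree. -/
def depT (n : ℕ) : ℕ := treeT n / 2048 % 64

/-- The number of the root. -/
def rootT (n : ℕ) : ℕ := treeT n / 131072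

/-- The roots of a coset. -/
def rootN (c r : ℕ) : ℕ := [c, c + 1024, c + 16 * thirdRoot.getD c 0].getD r 0

theorem tree_ok : ((List.range 16).all fun c => c == 0 || (List.range 128).all fun i =>
    let n := c + 16 * i
    let p := c + 16 * (treeT n % 128)
    decide (rootT n < 3) &&
      if depT n = 0 then n == rootN c (rootT n)
      else decide (depT p < depT n) && decide (treeT n % 128 < 128) && decide (treeT n / 128 % 16 < 13) &&
        rootT p == rootT n && step (treeT n / 128 % 16) p == n) = true := by decide +kernel

theorem root_counts : ((List.range 16).all fun c => c == 0 ||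
    [16, 16, 96] == (List.range 3).map fun r =>
      ((List.range 128).filter fun i => rootT (c + 16 * i) == r).length) = true := by decide +kernel

theorem class_counts : ((List.range 128).filter fun i => clN (wX (i % 64)) == 1).length = 36 ∧
    ((List.range 128).filter fun i => clN (wX (i % 64)) == 2).length = 90 ∧
    ((List.range 128).filter fun i => clN (wX (i % 64)) == 0).length = 2 := by decide +kernel

/-- Primes dividing none of the numbers `2^j - 1`, `j ≤ 11`. -/
def badPrimes : List ℕ := [13, 37, 47, 101, 103, 211, 277, 331, 571, 1531, 2011]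

theorem bad_ok : badPrimes.all (fun p => (List.range 11).all fun j => !((2 ^ (j + 1) - 1) % p == 0)) = true := by
  decide +kernel

theorem bad_prime : ∀ p ∈ badPrimes, Nat.Prime p := by
  simp only [badPrimes, List.forall_mem_cons]
  refine ⟨?_, ?_, ?_, ?_, ?_, ?_, ?_, ?_, ?_, ?_, ?_, by simp⟩ <;> norm_num

/-- The size of the class of `z` for a choice of classes and orbits. -/
def classSize (k : Bool) (f0 f1 f2 : Bool) : ℕ :=
  (cond k 37 91) + 15 * ((cond f0 16 0) + (cond f1 16 0) + (cond f2 96 0))

theorem arith_ok : ∀ k f0 f1 f2 : Bool, (∀ p ∈ badPrimes, ¬ p ∣ classSize k f0 f1 f2) →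
    k = false ∧ f2 = true ∧ f1 = !f0 := by decide +kernel

/-- Membership of the duad class for a choice of lifts. -/
def inD (e : ℕ → Bool) (n : ℕ) : Bool :=
  if n % 16 = 0 then clN (wX (n / 16 % 64)) == 1
  else rootT n == cond (e (n % 16)) 1 0

/-- A choice of lifts from its bits. -/
def eBits (b : ℕ) (c : ℕ) : Bool :=
  ([0, 0, 0, 1, 0, 2, 3, 4, 0, 5, 6, 7, 8, 9, 10, 11].getD c 0 != 0) &&
    b.testBit ([0, 0, 0, 1, 0, 2, 3, 4, 0, 5, 6, 7, 8, 9, 10, 11].getD c 0 - 1)

/-- The defect of a choice of lifts. -/
def gam (e : ℕ → Bool) (k l : ℕ) : Bool := xor (xor (e k) (e l)) (e (k ^^^ l))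

theorem invariant_ok : ((List.range 2048).all fun b =>
    [0, 543, 1207, 1704].contains b || !([perm1, perm2].all fun g => [1, 2, 4, 8].all fun k =>
      (List.range 15).all fun i => k == i + 1 ||
        gam (eBits b) (g.getD k 0) (g.getD (i + 1) 0) == gam (eBits b) k (i + 1))) = true := by decide +kernel

/-- The number of neighbours of an element. -/
def degN (e : ℕ → Bool) (a : ℕ) : ℕ := ((List.range 2048).filter fun n => inD e n && inD e (n ^^^ a)).length

theorem degree_ok : ([0, 543, 1207].all fun b => !(degN (eBits b) 1 == degN (eBits b) baseDuad)) = true ∧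
    inD (eBits 0) baseDuad = true ∧ baseDuad % 16 = 0 ∧ baseDuad < 2048 := by decide +kernel

/-- The chosen lifts. -/
def eT : ℕ → Bool := eBits 1704

/-- The linear map to the cocode. -/
def psi (n : ℕ) : ℕ := (List.range 11).foldl (fun s i => if n.testBit i then s ^^^ psiL.getD i 0 else s) 0

/-- The syndrome of a subset of the points. -/
def syn (m : ℕ) : ℕ := (m / 4096) ^^^ (Golay.encode (m % 4096) / 4096)

/-- The code of a duad. -/
def duadN (a b : ℕ) : ℕ := (duadL.getD a []).getD b 0

theorem psi_ker : ((List.range 2047).all fun n => !(psi (n + 1) == 0)) = true := by decide +kernel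

theorem duad_ok : ((List.range 24).all fun a => (List.range 24).all fun b => a == b ||
    decide (duadN a b < 2048) && inD eT (duadN a b) && psi (duadN a b) == syn (2 ^ a ^^^ 2 ^ b)) = true := by
  decide +kernel

theorem duad_all : ((List.range 2048).all fun n => !(inD eT n) ||
    ((List.range 24).any fun a => (duadL.getD a []).contains n)) = true ∧ duadL.all (fun r => r.length == 24) = true ∧
    ((List.range 24).all fun a => duadN a a == 0) = true := by decide +kernel

theorem words_act : ([(word1, perm1), (word2, perm2)].all fun p => p.1.all (fun j => decide (j < 3)) &&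
    (List.range 16).all fun c => decide (p.2.getD c 16 < 16) &&
      mulM (wordEl p.1) (kC c) == mulM (kC (p.2.getD c 16)) (wordEl p.1)) = true := by decide +kernel

theorem perms_transitive : ((List.range 15).all fun i =>
    ((List.range 15).foldl (fun s _ => (s ++ s.map (fun k => perm1.getD k 0) ++ s.map fun k => perm2.getD k 0).dedup)
      [1]).contains (i + 1)) = true := by decide +kernel

end Cfsg.Agent.Lib.Fi24Thompson95
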