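import Mathlib
import Cfsg.Agent.Lib.Fi24Type47.Unique
import Cfsg.Agent.Lib.Fi24Thompson95.Check

/-!
The elementary abelian group of order `2^11` in the centraliser of `z`: what normalises it and what centralises it.
-/

set_option autoImplicit false

namespace Cfsg.Agent.Lib.Fi24Thompson95

open Cfsg.Agent.Lib
open Cfsg.Agent.Lib.Fi24Type47 (Au Rep mat ap enc dec sylL linL kL fixK nuA nuM mulM)
open Cfsg.Agent.Lib.Fi24Type47.Rep (zC)
open Cfsg.Agent.Lib.FischerType (W6 wt inG)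

theorem kL_subset_syl : ∀ m ∈ kL, m ∈ sylL := fun m hm =>
  List.contains_iff_mem.1 (List.all_eq_true.1 Fi24Type47.syl_contains m (Fi24Type47.kL_lin m hm))

theorem fix_ok : (sylL.all fun m => !(fixK.all fun w => ap m w == w) || mulM m nuM == mulM nuM m) = true ∧
    (linL.all fun m => !(fixK.all fun w => ap m w == w) || kL.contains m) = true := by decide +kernel

variable {G : Type*} [Group G] {z : G}

/-- The setting: coordinates, a Sylow 2-subgroup, the subgroup `A` and a lift of `ν`. -/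
structure Frame (Q : Subgroup (Subgroup.centralizer ({z} : Set G))) [Q.Normal] where
  hF : Cfsg.IsOfLargeFischerTypeAt z Q
  P : Subgroup (Subgroup.centralizer ({z} : Set G) ⧸ Q)
  R : Rep Q P
  T : Sylow 2 (Subgroup.centralizer ({z} : Set G))
  T_syl : ∀ t ∈ (T : Subgroup (Subgroup.centralizer ({z} : Set G))), mat (R.img t) ∈ sylL
  A : Subgroup (Subgroup.centralizer ({z} : Set G))
  card_A : Nat.card A = 2 ^ 11
  A_sq : ∀ a ∈ A, a * a = 1
  A_Q : A ⊓ Q = R.X0
  A_img : ∀ f : Au, f ∈ A.map R.img ↔ mat f ∈ kL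
  A_le_T : A ≤ (T : Subgroup (Subgroup.centralizer ({z} : Set G)))
  Q_le_T : Q ≤ (T : Subgroup (Subgroup.centralizer ({z} : Set G)))
  nh : Subgroup.centralizer ({z} : Set G)
  nh3 : nh * nh * nh = 1
  img_nh : R.img nh = nuA

variable {Q : Subgroup (Subgroup.centralizer ({z} : Set G))} [Q.Normal]

theorem exists_frame [Finite G] (hF : Cfsg.IsOfLargeFischerTypeAt z Q) : Nonempty (Frame Q) := by
  classical
  haveI : Fact (Nat.Prime 2) := ⟨Nat.prime_two⟩
  obtain ⟨T⟩ : Nonempty (Sylow 2 (Subgroup.centralizer ({z} : Set G))) := inferInstance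
  set π := QuotientGroup.mk' Q
  obtain ⟨R⟩ := Fi24Type47.exists_rep Q hF ((T : Subgroup (Subgroup.centralizer ({z} : Set G))).map π)
    (T.isPGroup'.map π)
  obtain ⟨A, hAc, hAsq, hAQ, hAm⟩ := R.exists_A
  obtain ⟨P9, hP9, hP9c, -⟩ := Fi24Type47.exists_syl
  have hQp : IsPGroup 2 Q := IsPGroup.of_card R.D.card
  have hker : IsPGroup 2 R.img.ker := by
    rw [show R.img.ker = Q from SetLike.ext fun c => MonoidHom.mem_ker.trans (R.img_eq_one_iff c)]
    exact hQp
  have hTsyl : ∀ t ∈ (T : Subgroup (Subgroup.centralizer ({z} : Set G))), mat (R.img t) ∈ sylL := fun t ht =>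
    R.le_syl _ (Subgroup.mem_map_of_mem π ht)
  have hT : P9.comap R.img = T :=
    T.is_maximal' (IsPGroup.comap_of_ker_isPGroup (IsPGroup.of_card (p := 2) (n := 9) hP9c) R.img hker)
      fun t ht => Subgroup.mem_comap.2 ((hP9 _).2 (hTsyl t ht))
  obtain ⟨nh, h3, hn⟩ := R.exists_nh
  refine ⟨⟨hF, _, R, T, hTsyl, A, hAc, hAsq, hAQ, hAm, fun a ha => ?_, fun q hq => ?_, nh, h3, hn⟩⟩
  · rw [← hT, Subgroup.mem_comap]
    exact (hP9 _).2 (kL_subset_syl _ ((hAm _).1 (Subgroup.mem_map_of_mem _ ha)))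
  · rw [← hT, Subgroup.mem_comap, (R.img_eq_one_iff q).2 hq]
    exact one_mem _

namespace Frame

variable (F : Frame Q)

theorem img_mem {a : Subgroup.centralizer ({z} : Set G)} (ha : a ∈ F.A) : mat (F.R.img a) ∈ kL :=
  (F.A_img _).1 (Subgroup.mem_map_of_mem _ ha)

theorem A_comm {a b : Subgroup.centralizer ({z} : Set G)} (ha : a ∈ F.A) (hb : b ∈ F.A) : a * b = b * a := by
  have h := F.A_sq _ (mul_mem ha hb)
  calc a * b = (a * b) * ((b * a) * (b * a)) := by rw [F.A_sq _ (mul_mem hb ha), mul_one]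
    _ = a * (b * b) * a * (b * a) := by simp only [mul_assoc]
    _ = b * a := by rw [F.A_sq b hb, mul_one, F.A_sq a ha, one_mul]

theorem inv_A {a : Subgroup.centralizer ({z} : Set G)} (ha : a ∈ F.A) : a⁻¹ = a :=
  inv_eq_of_mul_eq_one_right (F.A_sq a ha)

theorem X0_le_A : F.R.X0 ≤ F.A := F.A_Q ▸ inf_le_left

theorem zC_mem : zC z ∈ F.A := F.X0_le_A F.R.zC_mem_X0

/-- The kernel test: `A` is normalised by whatever keeps the images in the Sylow subgroup. -/
theorem norm_A [Finite G] {h : Subgroup.centralizer ({z} : Set G)}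
    (hs : ∀ a ∈ F.A, mat (F.R.img h * F.R.img a * (F.R.img h)⁻¹) ∈ sylL)
    {a : Subgroup.centralizer ({z} : Set G)} (ha : a ∈ F.A) : h * a * h⁻¹ ∈ F.A := by
  have e : F.A.map (MulAut.conj h).toMonoidHom = F.A := by
    refine F.R.unique_A F.card_A F.A_sq F.A_Q F.A_img _ ?_ ?_ ⟨zC z, F.zC_mem, ?_⟩ ?_
    · rintro _ ⟨b, hb, rfl⟩
      show mat (F.R.img (h * b * h⁻¹)) ∈ sylL
      rw [map_mul, map_mul, map_inv]
      exact hs b hb
    · rintro _ ⟨b, hb, rfl⟩
      rw [← map_mul, F.A_sq b hb, map_one]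
    · show h * zC z * h⁻¹ = zC z
      exact mul_inv_eq_iff_eq_mul.2 (Fi24Type47.Rep.zC_comm h)
    · rw [← Nat.card_congr (F.A.equivMapOfInjective _ (MulAut.conj h).injective).toEquiv, F.card_A]
  rw [← e]
  exact ⟨a, ha, rfl⟩

theorem norm_T [Finite G] {t : Subgroup.centralizer ({z} : Set G)}
    (ht : t ∈ (F.T : Subgroup (Subgroup.centralizer ({z} : Set G)))) {a : Subgroup.centralizer ({z} : Set G)}
    (ha : a ∈ F.A) : t * a * t⁻¹ ∈ F.A :=
  F.norm_A (fun b hb => by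
    rw [← map_inv, ← map_mul, ← map_mul]
    exact F.T_syl _ (mul_mem (mul_mem ht (F.A_le_T hb)) (inv_mem ht))) ha

theorem norm_Q [Finite G] {q : Subgroup.centralizer ({z} : Set G)} (hq : q ∈ Q)
    {a : Subgroup.centralizer ({z} : Set G)} (ha : a ∈ F.A) : q * a * q⁻¹ ∈ F.A :=
  F.norm_T (F.Q_le_T hq) ha

theorem comm_nu {a : Subgroup.centralizer ({z} : Set G)} (ha : a ∈ F.A) :
    F.R.img a * nuA = nuA * F.R.img a := by
  obtain ⟨f, hf, -, hc, -⟩ := Fi24Type47.exists_lin (Fi24Type47.kL_lin _ (F.img_mem ha))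
  rwa [← Fi24Type47.mat_inj hf]

theorem norm_nh [Finite G] {a : Subgroup.centralizer ({z} : Set G)} (ha : a ∈ F.A) :
    F.nh * a * F.nh⁻¹ ∈ F.A :=
  F.norm_A (fun b hb => by
    rw [F.img_nh, ← F.comm_nu hb, mul_inv_cancel_right]
    exact kL_subset_syl _ (F.img_mem hb)) ha

theorem norm_X0 {h : Subgroup.centralizer ({z} : Set G)}
    (hA : ∀ a ∈ F.A, h * a * h⁻¹ ∈ F.A) {x : Subgroup.centralizer ({z} : Set G)} (hx : x ∈ F.R.X0) :
    h * x * h⁻¹ ∈ F.R.X0 := by
  rw [← F.A_Q] at hx ⊢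
  exact ⟨hA x hx.1, (inferInstance : Q.Normal).conj_mem x hx.2 h⟩

/-- An element of `Q` commuting with `X0` lies in it. -/
theorem Q_cent [Finite G] {q : Subgroup.centralizer ({z} : Set G)} (hq : q ∈ Q)
    (h : ∀ x ∈ F.R.X0, q * x = x * q) : q ∈ F.R.X0 :=
  (F.R.abelian_le F.R.X0 F.R.X0_le F.R.zC_mem_X0 fun _ ha _ hb => F.R.X0_comm ha hb).2 F.R.X0_ge q hq h

/-- `A` is its own centraliser. -/
theorem cent_A [Finite G] {g : G} (hg : ∀ a ∈ F.A, g * (a : G) = (a : G) * g) :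
    ∃ a ∈ F.A, (a : G) = g := by
  classical
  haveI : Fact (Nat.Prime 2) := ⟨Nat.prime_two⟩
  have hgz : g ∈ Subgroup.centralizer ({z} : Set G) :=
    Subgroup.mem_centralizer_singleton_iff.2 (hg _ F.zC_mem)
  let C : Subgroup (Subgroup.centralizer ({z} : Set G)) :=
    Subgroup.centralizer (F.A : Set (Subgroup.centralizer ({z} : Set G)))
  have hgC : (⟨g, hgz⟩ : Subgroup.centralizer ({z} : Set G)) ∈ C :=
    Subgroup.mem_centralizer_iff.2 fun a ha => Subtype.ext (hg a ha).symm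
  have hCA : ∀ c ∈ C, ∀ a ∈ F.A, c * a = a * c := fun c hc a ha => (Subgroup.mem_centralizer_iff.1 hc a ha).symm
  -- elements of odd order are trivial
  have hodd : ∀ c ∈ C, Odd (orderOf c) → c = 1 := by
    intro c hc hodd
    have hcq : ∀ q ∈ Q, c * q = q * c := by
      intro q hq
      have hq' : c * q * c⁻¹ ∈ Q := (inferInstance : Q.Normal).conj_mem q hq c
      have hy : q⁻¹ * (c * q * c⁻¹) ∈ F.R.X0 := by
        refine F.Q_cent (Q.mul_mem (Q.inv_mem hq) hq') fun x hx => ?_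
        have hw : q * x * q⁻¹ ∈ F.A := F.norm_Q hq (F.X0_le_A hx)
        have e1 : c * (q * x * q⁻¹) * c⁻¹ = q * x * q⁻¹ := mul_inv_eq_iff_eq_mul.2 (hCA c hc _ hw)
        have e2 : c⁻¹ * x * c = x := by
          rw [mul_assoc, ← hCA c hc x (F.X0_le_A hx), inv_mul_cancel_left]
        calc q⁻¹ * (c * q * c⁻¹) * x = q⁻¹ * (c * (q * (c⁻¹ * x * c) * q⁻¹) * c⁻¹) * (c * q * c⁻¹) := by group
          _ = x * (q⁻¹ * (c * q * c⁻¹)) := by rw [e2, e1]; group
      set y := q⁻¹ * (c * q * c⁻¹) with hyd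
      have hcy : c * y * c⁻¹ = y := mul_inv_eq_iff_eq_mul.2 (hCA c hc _ (F.X0_le_A hy))
      have hpow : ∀ n : ℕ, c ^ n * q * (c ^ n)⁻¹ = q * y ^ n := fun n => by
        induction n with
        | zero => simp
        | succ n ih =>
          have e : c * y ^ n * c⁻¹ = y ^ n := by
            rw [← conj_pow, hcy]
          calc c ^ (n + 1) * q * (c ^ (n + 1))⁻¹ = c * (c ^ n * q * (c ^ n)⁻¹) * c⁻¹ := by rw [pow_succ']; group
            _ = (c * q * c⁻¹) * (c * y ^ n * c⁻¹) := by rw [ih]; group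
            _ = q * y ^ (n + 1) := by rw [e, show c * q * c⁻¹ = q * y by rw [hyd]; group, pow_succ', mul_assoc]
      have h1 := hpow (orderOf c)
      rw [pow_orderOf_eq_one, inv_one, one_mul, mul_one, left_eq_mul] at h1
      obtain ⟨m, hm⟩ := hodd
      rw [hm, pow_succ, pow_mul, pow_two, F.R.X0_sq hy, one_pow, one_mul] at h1
      rw [hyd, inv_mul_eq_one] at h1
      exact mul_inv_eq_iff_eq_mul.1 h1.symm
    have hcQ : c ∈ Q := by
      have h := F.R.D.good.cent (c : G) fun q hq => by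
        obtain ⟨q', hq', rfl⟩ := hq
        exact congrArg Subtype.val (hcq q' hq')
      exact (FischerType.mem_map_iff c).1 h
    obtain ⟨k, hk⟩ := (IsPGroup.of_card (G := Q) (p := 2) F.R.D.card) ⟨c, hcQ⟩
    have hd : orderOf c ∣ 2 ^ k := orderOf_dvd_of_pow_eq_one (congrArg Subtype.val hk)
    obtain ⟨i, -, hi⟩ := (Nat.dvd_prime_pow Nat.prime_two).1 hd
    rcases i with - | i
    · rw [pow_zero, orderOf_eq_one_iff] at hi; exact hi
    · rw [hi, Nat.odd_pow_iff (Nat.succ_ne_zero i)] at hodd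
      exact absurd hodd (by decide)
  have hC2 : IsPGroup 2 C := by
    intro c
    obtain ⟨k, m, hm, he⟩ := Nat.exists_eq_two_pow_mul_odd (orderOf_pos c).ne'
    refine ⟨k, ?_⟩
    have ho : orderOf (c ^ 2 ^ k) = m := by
      rw [orderOf_pow_of_dvd (by positivity) (he ▸ Dvd.intro _ rfl), he, Nat.mul_div_cancel_left _ (by positivity)]
    refine Subtype.ext (hodd _ (c ^ 2 ^ k).2 ?_)
    rw [← Subgroup.orderOf_coe] at ho
    rw [ho]; exact hm
  have hTC : (F.T : Subgroup (Subgroup.centralizer ({z} : Set G))) ≤ Subgroup.normalizer (C : Set _) := by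
    intro t ht
    refine Subgroup.mem_normalizer_iff.2 fun c => ⟨fun hc => Subgroup.mem_centralizer_iff.2 fun a ha => ?_,
      fun hc => Subgroup.mem_centralizer_iff.2 fun a ha => ?_⟩
    · have ha' : t⁻¹ * a * t ∈ F.A := by simpa using F.norm_T (inv_mem ht) ha
      calc a * (t * c * t⁻¹) = t * ((t⁻¹ * a * t) * c) * t⁻¹ := by group
        _ = t * c * t⁻¹ * a := by rw [← hCA c hc _ ha']; group
    · have ha' : t * a * t⁻¹ ∈ F.A := F.norm_T ht ha
      calc a * c = t⁻¹ * ((t * a * t⁻¹) * (t * c * t⁻¹)) * t := by group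
        _ = c * a := by rw [← hCA _ hc _ ha']; group
  have hCT : C ≤ (F.T : Subgroup (Subgroup.centralizer ({z} : Set G))) := by
    rw [← F.T.is_maximal' (F.T.isPGroup'.to_sup_of_normal_right' hC2 hTC) le_sup_left]
    exact le_sup_right
  set c : Subgroup.centralizer ({z} : Set G) := ⟨g, hgz⟩ with hcd
  have hfix : ∀ w ∈ fixK, ap (mat (F.R.img c)) w = w := by
    intro w hw
    have hw' := List.all_eq_true.1 Fi24Type47.fixK_ok.2.2.1 w hw
    simp only [Bool.and_eq_true, decide_eq_true_eq] at hw'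
    obtain ⟨q, hq⟩ := F.R.vv_surj (dec w)
    have hqX : (q : Subgroup.centralizer ({z} : Set G)) ∈ F.R.X0 :=
      ⟨q.2, by rw [show (⟨_, q.2⟩ : Q) = q from rfl, hq, Fi24Type47.enc_dec hw'.1]; exact hw⟩
    rw [Fi24Type47.ap_mat _ hw'.1, ← hq, F.R.vv_img q q (mul_inv_eq_iff_eq_mul.2 (hCA c hgC _ (F.X0_le_A hqX))),
      hq, Fi24Type47.enc_dec hw'.1]
  have hall : (fixK.all fun w => ap (mat (F.R.img c)) w == w) = true :=
    List.all_eq_true.2 fun w hw => beq_iff_eq.2 (hfix w hw)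
  have hsyl := F.T_syl c (hCT hgC)
  have hnu : F.R.img c * nuA = nuA * F.R.img c := by
    have h := List.all_eq_true.1 fix_ok.1 _ hsyl
    rw [hall] at h
    exact (Fi24Type47.commute_nu_iff _).2 (by simpa using h)
  have hk : mat (F.R.img c) ∈ kL := by
    have h := List.all_eq_true.1 fix_ok.2 _ (F.R.mem_linL hsyl ⟨_, rfl⟩ hnu)
    rw [hall] at h
    exact List.contains_iff_mem.1 (by simpa using h)
  obtain ⟨a, ha, he⟩ := (F.A_img _).2 hk
  have hq : a⁻¹ * c ∈ Q := (F.R.img_eq_iff _ _).1 he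
  have hx : a⁻¹ * c ∈ F.R.X0 := by
    refine F.Q_cent hq fun x hx => ?_
    rw [mul_assoc, hCA c hgC x (F.X0_le_A hx), ← mul_assoc, F.A_comm (inv_mem ha) (F.X0_le_A hx), mul_assoc]
  have hcA : c ∈ F.A := by
    have h := mul_mem ha (F.X0_le_A hx)
    rwa [mul_inv_cancel_left] at h
  exact ⟨c, hcA, rfl⟩

end Frame

end Cfsg.Agent.Lib.Fi24Thompson95
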