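import Mathlib
import Cfsg.Agent.Lib.Fi24Thompson95.Frame

/-!
Codes of the elements of `A`: the coset of `A ∩ Q`, the vector, and the central bit.
-/

set_option autoImplicit false

namespace Cfsg.Agent.Lib.Fi24Thompson95

open Cfsg.Agent.Lib
open Cfsg.Agent.Lib.Fi24Type47 (Au mat ap enc dec kL fixK nuA mulM getE clN)
open Cfsg.Agent.Lib.Fi24Type47.Rep (zC)

/-- The listed elements by coset number. -/
def kCL : List (List ℕ) := (List.range 16).map kC

theorem kCL_ok : ((List.range 16).all fun c => kL.contains (kC c) && kCL.idxOf (kC c) == c &&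
      (List.range 16).all fun d => mulM (kC c) (kC d) == kC (c ^^^ d)) = true ∧
    (kL.all fun m => kCL.contains m) = true ∧ kC 0 = Fi24Type47.idM := by decide +kernel

theorem fix_idx_ok : (fixK.all fun v => decide (fixK.idxOf v < 64) && wX (fixK.idxOf v) == v) = true ∧
    (fixK.all fun v => fixK.all fun w => fixK.idxOf (v ^^^ w) == fixK.idxOf v ^^^ fixK.idxOf w) = true ∧
    ((List.range 64).all fun i => fixK.contains (wX i) && fixK.idxOf (wX i) == i) = true ∧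
    fixK.idxOf 0 = 0 := by decide +kernel

theorem pack_xor {a b a' b' : ℕ} (hb : b < 16) (hb' : b' < 16) :
    (b + 16 * a) ^^^ (b' + 16 * a') = (b ^^^ b') + 16 * (a ^^^ a') := by
  have h := Nat.xor_lt_two_pow (n := 4) hb hb'
  refine Nat.eq_of_testBit_eq fun j => ?_
  rw [Nat.testBit_xor, show (16 : ℕ) = 2 ^ 4 from rfl, add_comm b, add_comm b', add_comm (b ^^^ b'),
    Nat.testBit_two_pow_mul_add _ hb, Nat.testBit_two_pow_mul_add _ hb', Nat.testBit_two_pow_mul_add _ h]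
  split <;> simp [Nat.testBit_xor]

theorem pack_xor64 {a b a' b' : ℕ} (hb : b < 64) (hb' : b' < 64) :
    (b + 64 * a) ^^^ (b' + 64 * a') = (b ^^^ b') + 64 * (a ^^^ a') := by
  have h := Nat.xor_lt_two_pow (n := 6) hb hb'
  refine Nat.eq_of_testBit_eq fun j => ?_
  rw [Nat.testBit_xor, show (64 : ℕ) = 2 ^ 6 from rfl, add_comm b, add_comm b', add_comm (b ^^^ b'),
    Nat.testBit_two_pow_mul_add _ hb, Nat.testBit_two_pow_mul_add _ hb', Nat.testBit_two_pow_mul_add _ h]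
  split <;> simp [Nat.testBit_xor]

theorem bit_xor : ∀ e < 2, ∀ e' < 2, e ^^^ e' = (e + e') % 2 := by decide

theorem kCL_contains {m : List ℕ} (hm : m ∈ kL) : kCL.idxOf m < 16 ∧ kC (kCL.idxOf m) = m := by
  obtain ⟨c, hc, rfl⟩ := List.mem_map.1 (List.contains_iff_mem.1 (List.all_eq_true.1 kCL_ok.2.1 m hm))
  have h := List.all_eq_true.1 kCL_ok.1 c hc
  simp only [Bool.and_eq_true, beq_iff_eq] at h
  rw [show List.idxOf (kC c) kCL = c from h.1.2]
  exact ⟨List.mem_range.1 hc, rfl⟩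

variable {G : Type*} [Group G] {z : G} {Q : Subgroup (Subgroup.centralizer ({z} : Set G))} [Q.Normal]

namespace Frame

variable (F : Frame Q)

/-- The norm for the lift of `ν`. -/
def nrm (a : Subgroup.centralizer ({z} : Set G)) : Subgroup.centralizer ({z} : Set G) :=
  a * (F.nh * a * F.nh⁻¹) * (F.nh * (F.nh * a * F.nh⁻¹) * F.nh⁻¹)

open _root_.Classical in
/-- The central bit. -/
noncomputable def sg (x : Subgroup.centralizer ({z} : Set G)) : ℕ := if F.nrm x = zC z then 1 else 0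

open _root_.Classical in
/-- The vector of an element of `Q`, as a number. -/
noncomputable def vec (x : Subgroup.centralizer ({z} : Set G)) : ℕ :=
  if h : x ∈ Q then enc (F.R.vv ⟨x, h⟩) else 0

/-- The coset number of an element of `A`. -/
noncomputable def cN (a : Subgroup.centralizer ({z} : Set G)) : ℕ := kCL.idxOf (mat (F.R.img a))

theorem vec_eq (q : Q) : F.vec q = enc (F.R.vv q) := dif_pos q.2

theorem vec_lt {x : Subgroup.centralizer ({z} : Set G)} (hx : x ∈ Q) : F.vec x < 4096 := by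
  rw [F.vec_eq ⟨x, hx⟩]; exact Fi24Type47.enc_lt _

theorem vec_mul {x y : Subgroup.centralizer ({z} : Set G)} (hx : x ∈ Q) (hy : y ∈ Q) :
    F.vec (x * y) = F.vec x ^^^ F.vec y := by
  rw [F.vec_eq ⟨x, hx⟩, F.vec_eq ⟨y, hy⟩, F.vec_eq ⟨x * y, Q.mul_mem hx hy⟩, ← Fi24Type47.enc_add, ← F.R.vv_mul]
  rfl

theorem vec_zC : F.vec (zC z) = 0 := by
  rw [F.vec_eq ⟨zC z, F.R.zC_facts.1⟩, (F.R.vv_zero_iff _).2 (Or.inr rfl)]
  decide +kernel

theorem vec_one : F.vec 1 = 0 := by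
  have h := F.vec_mul Q.one_mem Q.one_mem
  rw [mul_one, Nat.xor_self] at h
  exact h

theorem vec_mem_fixK {x : Subgroup.centralizer ({z} : Set G)} (hx : x ∈ F.R.X0) : F.vec x ∈ fixK := by
  obtain ⟨hq, h⟩ := hx
  rwa [F.vec_eq ⟨x, hq⟩]

theorem vec_inv {x : Subgroup.centralizer ({z} : Set G)} (hx : x ∈ Q) : F.vec x⁻¹ = F.vec x := by
  have h := F.vec_mul (Q.inv_mem hx) hx
  rw [inv_mul_cancel, F.vec_one] at h
  exact Nat.xor_eq_zero_iff.1 h.symm

theorem vec_conj {c x : Subgroup.centralizer ({z} : Set G)} (hx : x ∈ Q) :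
    F.vec (c * x * c⁻¹) = ap (mat (F.R.img c)) (F.vec x) := by
  rw [F.vec_eq ⟨x, hx⟩, F.vec_eq ⟨_, (inferInstance : Q.Normal).conj_mem x hx c⟩, Fi24Type47.ap_mat _
    (Fi24Type47.enc_lt _), Fi24Type47.dec_enc, F.R.vv_img ⟨x, hx⟩ ⟨_, (inferInstance : Q.Normal).conj_mem x hx c⟩ rfl]

theorem cN_lt {a : Subgroup.centralizer ({z} : Set G)} (ha : a ∈ F.A) : F.cN a < 16 :=
  (kCL_contains (F.img_mem ha)).1

theorem cN_img {a : Subgroup.centralizer ({z} : Set G)} (ha : a ∈ F.A) : kC (F.cN a) = mat (F.R.img a) :=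
  (kCL_contains (F.img_mem ha)).2

theorem cN_of_mat {a : Subgroup.centralizer ({z} : Set G)} {c : ℕ} (hc : c < 16) (h : mat (F.R.img a) = kC c) :
    F.cN a = c := by
  have hh := List.all_eq_true.1 kCL_ok.1 c (List.mem_range.2 hc)
  simp only [Bool.and_eq_true, beq_iff_eq] at hh
  rw [cN, h]; exact hh.1.2

theorem cN_mul {a b : Subgroup.centralizer ({z} : Set G)} (ha : a ∈ F.A) (hb : b ∈ F.A) :
    F.cN (a * b) = F.cN a ^^^ F.cN b := by
  refine F.cN_of_mat (Nat.xor_lt_two_pow (n := 4) (F.cN_lt ha) (F.cN_lt hb)) ?_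
  have h := List.all_eq_true.1 kCL_ok.1 _ (List.mem_range.2 (F.cN_lt ha))
  simp only [Bool.and_eq_true, List.all_eq_true, beq_iff_eq] at h
  rw [map_mul, Fi24Type47.mat_mul, ← F.cN_img ha, ← F.cN_img hb]
  exact h.2 _ (List.mem_range.2 (F.cN_lt hb))

theorem cN_of_mem_Q {a : Subgroup.centralizer ({z} : Set G)} (ha : a ∈ Q) : F.cN a = 0 := by
  refine F.cN_of_mat (by norm_num) ?_
  rw [(F.R.img_eq_one_iff a).2 ha, Fi24Type47.mat_one, kCL_ok.2.2]

theorem mem_Q_of_cN {a : Subgroup.centralizer ({z} : Set G)} (ha : a ∈ F.A) (h : F.cN a = 0) : a ∈ Q := by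
  rw [← F.R.img_eq_one_iff]
  refine Fi24Type47.mat_inj ?_
  rw [← F.cN_img ha, h, Fi24Type47.mat_one, kCL_ok.2.2]

theorem nrm_mul [Finite G] {a b : Subgroup.centralizer ({z} : Set G)} (ha : a ∈ F.A) (hb : b ∈ F.A) :
    F.nrm (a * b) = F.nrm a * F.nrm b := by
  have n1 := fun u hu => F.norm_nh (a := u) hu
  set a1 := F.nh * a * F.nh⁻¹
  set a2 := F.nh * a1 * F.nh⁻¹
  set b1 := F.nh * b * F.nh⁻¹
  set b2 := F.nh * b1 * F.nh⁻¹
  show a * b * (F.nh * (a * b) * F.nh⁻¹) * (F.nh * (F.nh * (a * b) * F.nh⁻¹) * F.nh⁻¹) = a * a1 * a2 * (b * b1 * b2)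
  have e1 : F.nh * (a * b) * F.nh⁻¹ = a1 * b1 := by simp [a1, b1, mul_assoc]
  have e2 : F.nh * (a1 * b1) * F.nh⁻¹ = a2 * b2 := by simp [a2, b2, mul_assoc]
  rw [e1, e2]
  have c1 : Commute b a1 := F.A_comm hb (n1 _ ha)
  have c2 : Commute (b * b1) a2 := F.A_comm (mul_mem hb (n1 _ hb)) (n1 _ (n1 _ ha))
  calc a * b * (a1 * b1) * (a2 * b2) = a * (b * a1) * b1 * (a2 * b2) := by simp only [mul_assoc]
    _ = a * a1 * (b * b1 * a2) * b2 := by rw [c1.eq]; simp only [mul_assoc]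
    _ = _ := by rw [c2.eq]; simp only [mul_assoc]

theorem nrm_conj {h x : Subgroup.centralizer ({z} : Set G)} (hh : F.nh * h = h * F.nh) :
    F.nrm (h * x * h⁻¹) = h * F.nrm x * h⁻¹ := by
  have e : ∀ u, F.nh * (h * u * h⁻¹) * F.nh⁻¹ = h * (F.nh * u * F.nh⁻¹) * h⁻¹ := fun u => by
    calc F.nh * (h * u * h⁻¹) * F.nh⁻¹ = (F.nh * h) * u * (F.nh * h)⁻¹ := by group
      _ = (h * F.nh) * u * (h * F.nh)⁻¹ := by rw [hh]
      _ = _ := by group
  simp only [nrm, e]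
  group

theorem nrm_mem [Finite G] {a : Subgroup.centralizer ({z} : Set G)} (ha : a ∈ F.A) : F.nrm a ∈ F.A :=
  mul_mem (mul_mem ha (F.norm_nh ha)) (F.norm_nh (F.norm_nh ha))

theorem nrm_fixed [Finite G] {a : Subgroup.centralizer ({z} : Set G)} (ha : a ∈ F.A) :
    F.nh * F.nrm a = F.nrm a * F.nh := by
  refine mul_inv_eq_iff_eq_mul.1 ?_
  set a1 := F.nh * a * F.nh⁻¹ with ha1
  set a2 := F.nh * a1 * F.nh⁻¹ with ha2
  have e : F.nh * a2 * F.nh⁻¹ = a := by
    calc F.nh * a2 * F.nh⁻¹ = (F.nh * F.nh * F.nh) * a * (F.nh * F.nh * F.nh)⁻¹ := by rw [ha2, ha1]; group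
      _ = a := by rw [F.nh3]; group
  calc F.nh * F.nrm a * F.nh⁻¹ = (F.nh * a * F.nh⁻¹) * (F.nh * a1 * F.nh⁻¹) * (F.nh * a2 * F.nh⁻¹) := by
        show F.nh * (a * a1 * a2) * F.nh⁻¹ = _
        group
    _ = (a1 * a2) * a := by rw [e, ← ha1, ← ha2]
    _ = a * (a1 * a2) := F.A_comm (mul_mem (F.norm_nh ha) (F.norm_nh (F.norm_nh ha))) ha
    _ = F.nrm a := (mul_assoc _ _ _).symm

theorem nrm_of_fixed [Finite G] {a : Subgroup.centralizer ({z} : Set G)} (ha : a ∈ F.A)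
    (hf : F.nh * a = a * F.nh) : F.nrm a = a := by
  have e : F.nh * a * F.nh⁻¹ = a := mul_inv_eq_iff_eq_mul.2 hf
  rw [nrm, e, e, F.A_sq a ha, one_mul]

theorem nrm_X0 [Finite G] {x : Subgroup.centralizer ({z} : Set G)} (hx : x ∈ F.R.X0) :
    F.nrm x = 1 ∨ F.nrm x = zC z := by
  refine Fi24Type47.Rep.fixed_Q (R := F.R) F.nh3 F.img_nh ?_ (F.nrm_fixed (F.X0_le_A hx))
  have h1 := (inferInstance : Q.Normal).conj_mem x (F.R.X0_le hx) F.nh
  exact Q.mul_mem (Q.mul_mem (F.R.X0_le hx) h1) ((inferInstance : Q.Normal).conj_mem _ h1 F.nh)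

theorem sg_lt (x : Subgroup.centralizer ({z} : Set G)) : F.sg x < 2 := by
  rw [sg]; split <;> norm_num

theorem sg_mul [Finite G] {x y : Subgroup.centralizer ({z} : Set G)} (hx : x ∈ F.R.X0) (hy : y ∈ F.R.X0) :
    F.sg (x * y) = (F.sg x + F.sg y) % 2 := by
  classical
  have hne := F.R.zC_facts.2.2
  have hzz := F.R.zC_facts.2.1
  rw [sg, sg, sg, F.nrm_mul (F.X0_le_A hx) (F.X0_le_A hy)]
  rcases F.nrm_X0 hx with e | e <;> rcases F.nrm_X0 hy with e' | e' <;> rw [e, e'] <;>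
    simp [hne.symm, hzz]

theorem sg_zC [Finite G] : F.sg (zC z) = 1 := by
  classical
  rw [sg, F.nrm_of_fixed F.zC_mem (Fi24Type47.Rep.zC_comm F.nh), if_pos rfl]

theorem sg_one [Finite G] : F.sg 1 = 0 := by
  classical
  rw [sg, F.nrm_of_fixed (one_mem _) (by rw [mul_one, one_mul]), if_neg F.R.zC_facts.2.2.symm]

theorem sg_conj [Finite G] {h x : Subgroup.centralizer ({z} : Set G)} (hh : F.nh * h = h * F.nh) :
    F.sg (h * x * h⁻¹) = F.sg x := by
  classical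
  rw [sg, sg, F.nrm_conj hh]
  congr 1
  rw [mul_inv_eq_iff_eq_mul, ← Fi24Type47.Rep.zC_comm h]
  exact propext (mul_right_inj h)

end Frame

/-- A choice of fixed lifts of the four basic cosets. -/
structure Sec (F : Frame Q) where
  b : Fin 4 → Subgroup.centralizer ({z} : Set G)
  mem : ∀ j, b j ∈ F.A
  fix_nu : ∀ j, F.nh * b j = b j * F.nh
  img : ∀ j, mat (F.R.img (b j)) = kC (2 ^ (j : ℕ))

theorem exists_sec [Finite G] (F : Frame Q) : Nonempty (Sec F) := by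
  have h : ∀ j : Fin 4, ∃ a ∈ F.A, F.nh * a = a * F.nh ∧ mat (F.R.img a) = kC (2 ^ (j : ℕ)) := by
    intro j
    have hj : 2 ^ (j : ℕ) < 16 := by
      calc 2 ^ (j : ℕ) < 2 ^ 4 := Nat.pow_lt_pow_right (by norm_num) j.isLt
        _ = 16 := by norm_num
    have hk := List.all_eq_true.1 kCL_ok.1 _ (List.mem_range.2 hj)
    simp only [Bool.and_eq_true] at hk
    have hk' : kC (2 ^ (j : ℕ)) ∈ kL := List.contains_iff_mem.1 hk.1.1
    obtain ⟨f, hf, -⟩ := Fi24Type47.exists_lin (Fi24Type47.kL_lin _ hk')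
    obtain ⟨a, ha, rfl⟩ := (F.A_img f).2 (hf ▸ hk')
    refine ⟨F.nrm a, F.nrm_mem ha, F.nrm_fixed ha, ?_⟩
    rw [← hf]
    congr 1
    have hc : nuA * F.R.img a * nuA⁻¹ = F.R.img a := mul_inv_eq_iff_eq_mul.2 (F.comm_nu ha).symm
    simp only [Frame.nrm, map_mul, map_inv, F.img_nh, hc]
    rw [← map_mul, F.A_sq a ha, map_one, one_mul]
  choose b hb using h
  exact ⟨⟨b, fun j => (hb j).1, fun j => (hb j).2.1, fun j => (hb j).2.2⟩⟩

namespace Sec

variable {F : Frame Q} (S : Sec F)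

/-- One factor of a section. -/
def pick (j : Fin 4) (t : Bool) : Subgroup.centralizer ({z} : Set G) := cond t (S.b j) 1

/-- The section. -/
def sec (c : ℕ) : Subgroup.centralizer ({z} : Set G) :=
  S.pick 0 (c.testBit 0) * S.pick 1 (c.testBit 1) * S.pick 2 (c.testBit 2) * S.pick 3 (c.testBit 3)

theorem pick_mem (j : Fin 4) (t : Bool) : S.pick j t ∈ F.A := by
  cases t
  exacts [one_mem _, S.mem j]

theorem pick_fix (j : Fin 4) (t : Bool) : Commute F.nh (S.pick j t) := by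
  cases t
  exacts [Commute.one_right _, S.fix_nu j]

theorem sec_mem (c : ℕ) : S.sec c ∈ F.A :=
  mul_mem (mul_mem (mul_mem (S.pick_mem _ _) (S.pick_mem _ _)) (S.pick_mem _ _)) (S.pick_mem _ _)

theorem sec_fix (c : ℕ) : F.nh * S.sec c = S.sec c * F.nh :=
  ((((S.pick_fix _ _).mul_right (S.pick_fix _ _)).mul_right (S.pick_fix _ _)).mul_right (S.pick_fix _ _)).eq

theorem pick_xor (j : Fin 4) (s t : Bool) : S.pick j (xor s t) = S.pick j s * S.pick j t := by
  cases s <;> cases t <;> simp [pick, F.A_sq _ (S.mem j)]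

theorem sec_xor (c d : ℕ) : S.sec (c ^^^ d) = S.sec c * S.sec d := by
  simp only [sec, Nat.testBit_xor, pick_xor]
  have hc : ∀ i s j t, Commute (S.pick i s) (S.pick j t) := fun i s j t => F.A_comm (S.pick_mem i s) (S.pick_mem j t)
  set p0 := S.pick 0 (c.testBit 0); set q0 := S.pick 0 (d.testBit 0)
  set p1 := S.pick 1 (c.testBit 1); set q1 := S.pick 1 (d.testBit 1)
  set p2 := S.pick 2 (c.testBit 2); set q2 := S.pick 2 (d.testBit 2)
  set p3 := S.pick 3 (c.testBit 3); set q3 := S.pick 3 (d.testBit 3)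
  have h1 : Commute q0 p1 := hc _ _ _ _
  have h2 : Commute (q0 * q1) p2 := (hc _ _ _ _).mul_left (hc _ _ _ _)
  have h3 : Commute (q0 * q1 * q2) p3 := ((hc _ _ _ _).mul_left (hc _ _ _ _)).mul_left (hc _ _ _ _)
  calc p0 * q0 * (p1 * q1) * (p2 * q2) * (p3 * q3) = p0 * (q0 * p1) * q1 * (p2 * q2) * (p3 * q3) := by
        simp only [mul_assoc]
    _ = p0 * p1 * (q0 * q1 * p2) * q2 * (p3 * q3) := by rw [h1.eq]; simp only [mul_assoc]
    _ = p0 * p1 * p2 * (q0 * q1 * q2 * p3) * q3 := by rw [h2.eq]; simp only [mul_assoc]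
    _ = _ := by rw [h3.eq]; simp only [mul_assoc]

theorem sec_zero : S.sec 0 = 1 := by simp [sec, pick]

theorem sec_basis (j : Fin 4) : S.sec (2 ^ (j : ℕ)) = S.b j := by
  fin_cases j <;> simp [sec, pick, Nat.testBit_eq_decide_div_mod_eq]

theorem sec_cN {c : ℕ} (hc : c < 16) : F.cN (S.sec c) = c := by
  have hb : ∀ j : Fin 4, F.cN (S.b j) = 2 ^ (j : ℕ) := fun j => F.cN_of_mat (by
    calc 2 ^ (j : ℕ) < 2 ^ 4 := Nat.pow_lt_pow_right (by norm_num) j.isLt
      _ = 16 := by norm_num) (S.img j)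
  have hp : ∀ (j : Fin 4) (t : Bool), F.cN (S.pick j t) = cond t (2 ^ (j : ℕ)) 0 := by
    intro j t
    cases t
    exacts [F.cN_of_mem_Q Q.one_mem, hb j]
  rw [sec, F.cN_mul (mul_mem (mul_mem (S.pick_mem _ _) (S.pick_mem _ _)) (S.pick_mem _ _)) (S.pick_mem _ _),
    F.cN_mul (mul_mem (S.pick_mem _ _) (S.pick_mem _ _)) (S.pick_mem _ _),
    F.cN_mul (S.pick_mem _ _) (S.pick_mem _ _), hp, hp, hp, hp]
  revert c
  decide

/-- The part in `A ∩ Q`. -/
noncomputable def xp (a : Subgroup.centralizer ({z} : Set G)) : Subgroup.centralizer ({z} : Set G) :=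
  S.sec (F.cN a) * a

theorem xp_mem {a : Subgroup.centralizer ({z} : Set G)} (ha : a ∈ F.A) : S.xp a ∈ F.R.X0 := by
  rw [← F.A_Q]
  rw [xp]
  refine ⟨mul_mem (S.sec_mem _) ha, F.mem_Q_of_cN (mul_mem (S.sec_mem _) ha) ?_⟩
  rw [F.cN_mul (S.sec_mem _) ha, S.sec_cN (F.cN_lt ha), Nat.xor_self]

theorem eq_sec_xp {a : Subgroup.centralizer ({z} : Set G)} : a = S.sec (F.cN a) * S.xp a := by
  rw [xp, ← mul_assoc, F.A_sq _ (S.sec_mem _), one_mul]

theorem xp_eq {c : ℕ} (hc : c < 16) {x : Subgroup.centralizer ({z} : Set G)} (hx : x ∈ F.R.X0) :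
    F.cN (S.sec c * x) = c ∧ S.xp (S.sec c * x) = x := by
  have h : F.cN (S.sec c * x) = c := by
    rw [F.cN_mul (S.sec_mem _) (F.X0_le_A hx), S.sec_cN hc, F.cN_of_mem_Q (F.R.X0_le hx), Nat.xor_zero]
  exact ⟨h, by rw [xp, h, ← mul_assoc, F.A_sq _ (S.sec_mem _), one_mul]⟩

theorem xp_mul {a b : Subgroup.centralizer ({z} : Set G)} (ha : a ∈ F.A) (hb : b ∈ F.A) :
    S.xp (a * b) = S.xp a * S.xp b := by
  rw [xp, xp, xp, F.cN_mul ha hb, S.sec_xor]
  have hc : Commute (S.sec (F.cN b)) a := F.A_comm (S.sec_mem _) ha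
  calc S.sec (F.cN a) * S.sec (F.cN b) * (a * b) = S.sec (F.cN a) * (S.sec (F.cN b) * a) * b := by
        simp only [mul_assoc]
    _ = _ := by rw [hc.eq]; simp only [mul_assoc]

/-- The code of an element of `A`. -/
noncomputable def code (a : Subgroup.centralizer ({z} : Set G)) : ℕ :=
  cod (F.cN a) (F.vec (S.xp a)) (F.sg (S.xp a))

theorem code_parts {a : Subgroup.centralizer ({z} : Set G)} (ha : a ∈ F.A) :
    S.code a % 16 = F.cN a ∧ wX (S.code a / 16 % 64) = F.vec (S.xp a) ∧ S.code a / 1024 = F.sg (S.xp a) ∧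
      S.code a < 2048 := by
  have h1 := F.cN_lt ha
  have h2 := F.sg_lt (S.xp a)
  have h := List.all_eq_true.1 fix_idx_ok.1 _ (F.vec_mem_fixK (S.xp_mem ha))
  simp only [Bool.and_eq_true, decide_eq_true_eq, beq_iff_eq] at h
  have e : S.code a = F.cN a + 16 * fixK.idxOf (F.vec (S.xp a)) + 1024 * F.sg (S.xp a) := rfl
  rw [e]
  have := h.1
  refine ⟨by omega, ?_, by omega, by omega⟩
  rw [show (F.cN a + 16 * fixK.idxOf (F.vec (S.xp a)) + 1024 * F.sg (S.xp a)) / 16 % 64 =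
    fixK.idxOf (F.vec (S.xp a)) by omega]
  exact h.2

theorem code_mul [Finite G] {a b : Subgroup.centralizer ({z} : Set G)} (ha : a ∈ F.A) (hb : b ∈ F.A) :
    S.code (a * b) = S.code a ^^^ S.code b := by
  have hxa := S.xp_mem ha
  have hxb := S.xp_mem hb
  have hi := List.all_eq_true.1 (List.all_eq_true.1 fix_idx_ok.2.1 _ (F.vec_mem_fixK hxa)) _ (F.vec_mem_fixK hxb)
  simp only [beq_iff_eq] at hi
  have la := List.all_eq_true.1 fix_idx_ok.1 _ (F.vec_mem_fixK hxa)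
  have lb := List.all_eq_true.1 fix_idx_ok.1 _ (F.vec_mem_fixK hxb)
  simp only [Bool.and_eq_true, decide_eq_true_eq] at la lb
  rw [code, code, code, cod, cod, cod, F.cN_mul ha hb, S.xp_mul ha hb, F.vec_mul (F.R.X0_le hxa) (F.R.X0_le hxb), hi,
    F.sg_mul hxa hxb, ← bit_xor _ (F.sg_lt _) _ (F.sg_lt _)]
  rw [show ∀ c i e : ℕ, c + 16 * i + 1024 * e = c + 16 * (i + 64 * e) from fun c i e => by ring,
    show ∀ c i e : ℕ, c + 16 * i + 1024 * e = c + 16 * (i + 64 * e) from fun c i e => by ring,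
    show ∀ c i e : ℕ, c + 16 * i + 1024 * e = c + 16 * (i + 64 * e) from fun c i e => by ring,
    pack_xor (F.cN_lt ha) (F.cN_lt hb), pack_xor64 la.1 lb.1]

theorem code_one [Finite G] : S.code 1 = 0 := by
  have h := S.code_mul (one_mem F.A) (one_mem F.A)
  rw [mul_one, Nat.xor_self] at h
  exact h

theorem code_eq_zero [Finite G] {a : Subgroup.centralizer ({z} : Set G)} (ha : a ∈ F.A) (h : S.code a = 0) :
    a = 1 := by
  obtain ⟨p1, p2, p3, -⟩ := S.code_parts ha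
  rw [h] at p1 p2 p3
  have hc : F.cN a = 0 := p1.symm
  have hv : F.vec (S.xp a) = 0 := p2.symm.trans (by decide +kernel)
  have hxq := F.R.X0_le (S.xp_mem ha)
  rw [F.vec_eq ⟨_, hxq⟩] at hv
  have hv' : F.R.vv ⟨_, hxq⟩ = 0 := Fi24Type47.enc_inj (hv.trans (by decide +kernel))
  have e := S.eq_sec_xp (a := a)
  rw [hc, S.sec_zero, one_mul] at e
  rcases F.R.eq_of_vv_zero hxq hv' with r | r
  · rw [e, r]
  · exfalso
    rw [r, F.sg_zC] at p3
    norm_num at p3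

theorem code_inj [Finite G] {a b : Subgroup.centralizer ({z} : Set G)} (ha : a ∈ F.A) (hb : b ∈ F.A)
    (h : S.code a = S.code b) : a = b := by
  have h0 := S.code_eq_zero (mul_mem ha hb) (by rw [S.code_mul ha hb, h, Nat.xor_self])
  rw [eq_inv_of_mul_eq_one_left h0, F.inv_A hb]

theorem code_zC [Finite G] : S.code (zC z) = 1024 := by
  have hc := F.cN_of_mem_Q (a := zC z) F.R.zC_facts.1
  rw [code, xp, hc, S.sec_zero, one_mul, F.vec_zC, F.sg_zC, cod, fix_idx_ok.2.2.2]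

theorem code_sec [Finite G] {c : ℕ} (hc : c < 16) : S.code (S.sec c) = c := by
  obtain ⟨h1, h2⟩ := S.xp_eq hc (one_mem F.R.X0)
  rw [mul_one] at h1 h2
  rw [code, h1, h2, F.vec_one, F.sg_one, cod, fix_idx_ok.2.2.2]
  omega

theorem exists_code [Finite G] {n : ℕ} (hn : n < 2048) : ∃ a ∈ F.A, S.code a = n := by
  classical
  haveI : Fintype F.A := Fintype.ofFinite _
  let f : F.A → Fin 2048 := fun a => ⟨S.code a, (S.code_parts a.2).2.2.2⟩
  have hinj : Function.Injective f := fun a b h => Subtype.ext (S.code_inj a.2 b.2 (congrArg Fin.val h))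
  have hbij : Function.Bijective f := (Fintype.bijective_iff_injective_and_card _).2 ⟨hinj, by
    rw [← Nat.card_eq_fintype_card, F.card_A, Fintype.card_fin]; norm_num⟩
  obtain ⟨⟨a, ha⟩, e⟩ := hbij.2 ⟨n, hn⟩
  exact ⟨a, ha, congrArg Fin.val e⟩

end Sec

end Cfsg.Agent.Lib.Fi24Thompson95
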