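import Mathlib
import Cfsg.Agent.Lib.Fi24Thompson95.Coords

/-!
The action of `Q` and of the lift of `ν` on the codes.
-/

set_option autoImplicit false

namespace Cfsg.Agent.Lib.Fi24Thompson95

open Cfsg.Agent.Lib
open Cfsg.Agent.Lib.Fi24Type47 (Au mat ap enc dec kL fixK nuA nuM mulM getE clN)
open Cfsg.Agent.Lib.Fi24Type47.Rep (zC)
open Cfsg.Agent.Lib.FischerType (wt W6 inG)

theorem wtN_all : ((List.range 64).all fun a => (List.range 64).all fun b =>
    wtN (64 * a + b) == wt (dec (64 * a + b))) = true := by decide +kernel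

theorem nu_triple : ((List.range 64).all fun a => (List.range 64).all fun b =>
    ap nuM (ap nuM (64 * a + b)) == (64 * a + b) ^^^ ap nuM (64 * a + b)) = true := by decide +kernel

theorem wtN_enc (w : W6) : wtN (enc w) = wt w := by
  have hw := Fi24Type47.enc_lt w
  have h := List.all_eq_true.1 (List.all_eq_true.1 wtN_all (enc w / 64) (List.mem_range.2 (by omega))) (enc w % 64)
    (List.mem_range.2 (by omega))
  rw [Nat.div_add_mod, beq_iff_eq, Fi24Type47.dec_enc] at h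
  exact h

theorem nu_nu {v : ℕ} (hv : v < 4096) : ap nuM (ap nuM v) = v ^^^ ap nuM v := by
  have h := List.all_eq_true.1 (List.all_eq_true.1 nu_triple (v / 64) (List.mem_range.2 (by omega))) (v % 64)
    (List.mem_range.2 (by omega))
  rw [Nat.div_add_mod, beq_iff_eq] at h
  exact h

theorem bN_lt (u v : ℕ) : bN u v < 2 := Nat.mod_lt _ (by norm_num)

variable {G : Type*} [Group G] [Finite G] {z : G} {Q : Subgroup (Subgroup.centralizer ({z} : Set G))} [Q.Normal]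

namespace Frame

variable (F : Frame Q)

omit [Finite G] in
theorem vec_parity {q : Subgroup.centralizer ({z} : Set G)} (hq : q ∈ Q) :
    wtN (F.vec q) % 2 = 0 ↔ q * q = 1 := by
  rw [F.vec_eq ⟨q, hq⟩, wtN_enc, F.R.vv_parity]
  exact ⟨fun h => Subtype.ext h, fun h => congrArg Subtype.val h⟩

/-- Conjugation of `A ∩ Q` by an element of `Q`. -/
theorem conj_X0 {q y : Subgroup.centralizer ({z} : Set G)} (hq : q ∈ Q) (hy : y ∈ F.R.X0) :
    q * y * q⁻¹ = y * (if bN (F.vec q) (F.vec y) = 1 then zC z else 1) := by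
  classical
  have hyQ := F.R.X0_le hy
  have hzz := F.R.zC_facts.2.1
  have hne := F.R.zC_facts.2.2
  have hy0 : wtN (F.vec y) % 2 = 0 := (F.vec_parity hyQ).2 (F.R.X0_sq hy)
  have hv : F.vec (q * y) = F.vec q ^^^ F.vec y := F.vec_mul hq hyQ
  have hpar := F.vec_parity (Q.mul_mem hq hyQ)
  rw [hv] at hpar
  have hqpar := F.vec_parity hq
  -- the square of `q * y`
  have hsq : ∀ ζ, q * y * q⁻¹ = y * ζ → (ζ = 1 ∨ ζ = zC z) → q * y * (q * y) = q * q * ζ := by
    intro ζ hζ hζ'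
    have hcz : ∀ u, u * ζ = ζ * u := fun u => by
      rcases hζ' with rfl | rfl
      · rw [mul_one, one_mul]
      · exact Fi24Type47.Rep.zC_comm u
    have hq2 : q * q = 1 ∨ q * q = zC z := by
      rcases F.R.D.good.sq_cases ((FischerType.mem_map_iff q).2 hq) with e | e
      · exact Or.inl (Subtype.ext e)
      · exact Or.inr (Subtype.ext e)
    have hq2y : q * q * y = y * (q * q) := by
      rcases hq2 with e | e <;> rw [e]
      · rw [one_mul, mul_one]
      · exact (Fi24Type47.Rep.zC_comm y).symm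
    calc q * y * (q * y) = q * y * q⁻¹ * (q * q * y) := by group
      _ = y * ζ * (y * (q * q)) := by rw [hζ, hq2y]
      _ = (y * y) * (ζ * (q * q)) := by
        rw [mul_assoc y ζ, ← mul_assoc ζ y, ← hcz y]; simp only [mul_assoc]
      _ = q * q * ζ := by rw [F.R.X0_sq hy, one_mul, hcz]
  rcases F.R.D.good.comm _ ((FischerType.mem_map_iff q).2 hq) _ ((FischerType.mem_map_iff y).2 hyQ) with e | e
  · have e' : q * y * q⁻¹ = y * 1 := by rw [mul_one]; exact Subtype.ext e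
    have hs := hsq 1 e' (Or.inl rfl)
    rw [mul_one] at hs
    rw [hs, ← hqpar] at hpar
    rw [if_neg (fun hb => ?_), e']
    unfold bN at hb
    omega
  · have e' : q * y * q⁻¹ = y * zC z := Subtype.ext e
    have hs := hsq _ e' (Or.inr rfl)
    rw [if_pos ?_, e']
    rw [hs] at hpar
    have hq2 : q * q = 1 ∨ q * q = zC z := by
      rcases F.R.D.good.sq_cases ((FischerType.mem_map_iff q).2 hq) with r | r
      · exact Or.inl (Subtype.ext r)
      · exact Or.inr (Subtype.ext r)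
    unfold bN
    rcases hq2 with r | r <;> rw [r] at hpar hqpar
    · rw [one_mul] at hpar
      have h1 := hqpar.2 rfl
      have h2 : ¬ wtN (F.vec q ^^^ F.vec y) % 2 = 0 := fun h => hne (hpar.1 h)
      omega
    · rw [hzz] at hpar
      have h1 : ¬ wtN (F.vec q) % 2 = 0 := fun h => hne (hqpar.1 h)
      have h2 := hpar.2 rfl
      omega

theorem sg_conj_Q {q y : Subgroup.centralizer ({z} : Set G)} (hq : q ∈ Q) (hy : y ∈ F.R.X0) :
    F.sg (q * y * q⁻¹) = (F.sg y + bN (F.vec q) (F.vec y)) % 2 := by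
  have hl := bN_lt (F.vec q) (F.vec y)
  rw [F.conj_X0 hq hy]
  split
  · rename_i h
    rw [F.sg_mul hy F.R.zC_mem_X0, F.sg_zC, h]
  · rw [mul_one, show bN (F.vec q) (F.vec y) = 0 by omega, add_zero]
    have := F.sg_lt y
    omega

theorem vec_conj_Q {q y : Subgroup.centralizer ({z} : Set G)} (hq : q ∈ Q) (hy : y ∈ Q) :
    F.vec (q * y * q⁻¹) = F.vec y := by
  rw [F.vec_mul (Q.mul_mem hq hy) (Q.inv_mem hq), F.vec_mul hq hy, F.vec_inv hq, Nat.xor_comm (F.vec q),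
    Nat.xor_assoc, Nat.xor_self, Nat.xor_zero]

variable {s : Subgroup.centralizer ({z} : Set G)}

theorem move_mem (hs : s ∈ F.A) {q : Subgroup.centralizer ({z} : Set G)} (hq : q ∈ Q) :
    q * s * q⁻¹ * s ∈ F.R.X0 := by
  rw [← F.A_Q]
  refine ⟨mul_mem (F.norm_Q hq hs) hs, ?_⟩
  rw [show q * s * q⁻¹ * s = q * (s * q⁻¹ * s⁻¹) by rw [F.inv_A hs]; group]
  exact Q.mul_mem hq ((inferInstance : Q.Normal).conj_mem _ (Q.inv_mem hq) s)

omit [Finite G] in
theorem vec_move (hs : s ∈ F.A) {q : Subgroup.centralizer ({z} : Set G)} (hq : q ∈ Q) :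
    F.vec (q * s * q⁻¹ * s) = dC (F.cN s) (F.vec q) := by
  rw [show q * s * q⁻¹ * s = q * (s * q⁻¹ * s⁻¹) by rw [F.inv_A hs]; group,
    F.vec_mul hq ((inferInstance : Q.Normal).conj_mem _ (Q.inv_mem hq) s), F.vec_conj (Q.inv_mem hq), F.vec_inv hq,
    dC, F.cN_img hs]

/-- The central part of a translation. -/
theorem sg_move (hs : s ∈ F.A) (hf : F.nh * s = s * F.nh) {q : Subgroup.centralizer ({z} : Set G)} (hq : q ∈ Q) :
    F.sg (q * s * q⁻¹ * s) = phC (F.cN s) (F.vec q) := by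
  set f := fun p => F.sg (p * s * p⁻¹ * s) with hfd
  have hzs : ∀ p, zC z * p * s * (zC z * p)⁻¹ * s = p * s * p⁻¹ * s := fun p => by
    calc zC z * p * s * (zC z * p)⁻¹ * s = zC z * (p * s * p⁻¹) * (zC z)⁻¹ * s := by group
      _ = p * s * p⁻¹ * s := by rw [← Fi24Type47.Rep.zC_comm (p * s * p⁻¹), mul_inv_cancel_right]
  have hsame : ∀ p p', p ∈ Q → p' ∈ Q → F.vec p = F.vec p' → f p' = f p := by
    intro p p' hp hp' he
    rw [F.vec_eq ⟨p, hp⟩, F.vec_eq ⟨p', hp'⟩] at he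
    rcases F.R.eq_of_vv (a := ⟨p, hp⟩) (b := ⟨p', hp'⟩) (Fi24Type47.enc_inj he) with e | e
    · exact congrArg f e
    · show F.sg _ = F.sg _
      rw [show p' = zC z * p by rw [← Fi24Type47.Rep.zC_comm p]; exact e, hzs]
  have hmul : ∀ p p', p ∈ Q → p' ∈ Q → f (p * p') = (f p + f p' + bN (F.vec p) (dC (F.cN s) (F.vec p'))) % 2 := by
    intro p p' hp hp'
    have hm' := F.move_mem hs hp'
    have e : p * p' * s * (p * p')⁻¹ * s = p * (p' * s * p'⁻¹ * s) * p⁻¹ * (p * s * p⁻¹ * s) := by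
      calc p * p' * s * (p * p')⁻¹ * s = p * (p' * s * p'⁻¹) * p⁻¹ * s := by group
        _ = p * (p' * s * p'⁻¹ * (s * s)) * p⁻¹ * s := by rw [F.A_sq s hs, mul_one]
        _ = _ := by group
    have hc : p * (p' * s * p'⁻¹ * s) * p⁻¹ ∈ F.R.X0 := F.norm_X0 (fun a ha => F.norm_Q hp ha) hm'
    show F.sg _ = _
    rw [e, F.sg_mul hc (F.move_mem hs hp), F.sg_conj_Q hp hm', F.vec_move hs hp']
    simp only [hfd]
    omega
  set q1 := F.nh * q * F.nh⁻¹ with hq1
  set q2 := F.nh * q1 * F.nh⁻¹ with hq2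
  have hq1Q : q1 ∈ Q := (inferInstance : Q.Normal).conj_mem q hq F.nh
  have hq2Q : q2 ∈ Q := (inferInstance : Q.Normal).conj_mem q1 hq1Q F.nh
  have hn : ∀ p, f (F.nh * p * F.nh⁻¹) = f p := by
    intro p
    have e : F.nh * p * F.nh⁻¹ * s * (F.nh * p * F.nh⁻¹)⁻¹ * s = F.nh * (p * s * p⁻¹ * s) * F.nh⁻¹ := by
      have h1 : F.nh * s * F.nh⁻¹ = s := mul_inv_eq_iff_eq_mul.2 hf
      calc F.nh * p * F.nh⁻¹ * s * (F.nh * p * F.nh⁻¹)⁻¹ * s
          = F.nh * p * F.nh⁻¹ * (F.nh * s * F.nh⁻¹) * (F.nh * p * F.nh⁻¹)⁻¹ * (F.nh * s * F.nh⁻¹) := by rw [h1]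
        _ = _ := by group
    show F.sg _ = F.sg _
    rw [e, F.sg_conj (by group)]
  have v1 : F.vec q1 = ap nuM (F.vec q) := by rw [hq1, F.vec_conj hq, F.img_nh, Fi24Type47.mat_nuA]
  have v2 : F.vec q2 = F.vec (q * q1) := by
    rw [hq2, F.vec_conj hq1Q, F.img_nh, Fi24Type47.mat_nuA, v1, nu_nu (F.vec_lt hq), F.vec_mul hq hq1Q, v1]
  have h12 : f (q * q1) = f q := by
    rw [hsame q2 (q * q1) hq2Q (Q.mul_mem hq hq1Q) v2, hq2, hn, hq1, hn]
  have h := hmul q q1 hq hq1Q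
  rw [h12, v1, show f q1 = f q from hn q] at h
  have hl : f q < 2 := F.sg_lt _
  have hl' := bN_lt (F.vec q) (dC (F.cN s) (ap nuM (F.vec q)))
  show f q = phC _ _
  rw [phC]
  omega

end Frame

namespace Sec

variable {F : Frame Q} (S : Sec F)

theorem code_translate {q a : Subgroup.centralizer ({z} : Set G)} {g : ℕ} (hg : g < 12) (hq : q ∈ Q)
    (hv : F.vec q = 2 ^ g) (ha : a ∈ F.A) : S.code (q * a * q⁻¹) = step g (S.code a) := by
  obtain ⟨p1, p2, p3, -⟩ := S.code_parts ha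
  set c := F.cN a with hc
  set x := S.xp a with hx
  have hxX : x ∈ F.R.X0 := S.xp_mem ha
  have hm := F.move_mem (S.sec_mem c) hq
  have hy : q * x * q⁻¹ ∈ F.R.X0 := F.norm_X0 (fun b hb => F.norm_Q hq hb) hxX
  have e : q * a * q⁻¹ = S.sec c * ((q * S.sec c * q⁻¹ * S.sec c) * (q * x * q⁻¹)) := by
    have hcomm : S.sec c * (q * S.sec c * q⁻¹ * S.sec c) = q * S.sec c * q⁻¹ := by
      rw [← F.A_comm (F.X0_le_A hm) (S.sec_mem c), mul_assoc, F.A_sq _ (S.sec_mem c), mul_one]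
    rw [← mul_assoc, hcomm]
    calc q * a * q⁻¹ = q * (S.sec c * x) * q⁻¹ := by rw [← S.eq_sec_xp]
      _ = _ := by group
  obtain ⟨h1, h2⟩ := S.xp_eq (F.cN_lt ha) (mul_mem hm hy)
  rw [code, e, h1, h2, F.vec_mul (F.R.X0_le hm) (F.R.X0_le hy), F.vec_move (S.sec_mem c) hq,
    F.vec_conj_Q hq (F.R.X0_le hxX), F.sg_mul hm hy, F.sg_move (S.sec_mem c) (S.sec_fix c) hq, F.sg_conj_Q hq hxX,
    S.sec_cN (F.cN_lt ha), hv, step, if_pos hg, p1, p2, p3, Nat.xor_comm (dC c (2 ^ g))]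
  congr 1
  simp only [← hc]
  omega

theorem code_nu {a : Subgroup.centralizer ({z} : Set G)} (ha : a ∈ F.A) :
    S.code (F.nh * a * F.nh⁻¹) = step 12 (S.code a) := by
  obtain ⟨p1, p2, p3, -⟩ := S.code_parts ha
  set c := F.cN a with hc
  set x := S.xp a with hx
  have hxX : x ∈ F.R.X0 := S.xp_mem ha
  have hy : F.nh * x * F.nh⁻¹ ∈ F.R.X0 := F.norm_X0 (fun b hb => F.norm_nh hb) hxX
  have e : F.nh * a * F.nh⁻¹ = S.sec c * (F.nh * x * F.nh⁻¹) := by
    calc F.nh * a * F.nh⁻¹ = F.nh * (S.sec c * x) * F.nh⁻¹ := by rw [← S.eq_sec_xp]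
      _ = F.nh * S.sec c * (x * F.nh⁻¹) := by group
      _ = _ := by rw [S.sec_fix]; group
  obtain ⟨h1, h2⟩ := S.xp_eq (F.cN_lt ha) hy
  rw [code, e, h1, h2, F.vec_conj (F.R.X0_le hxX), F.img_nh, Fi24Type47.mat_nuA, F.sg_conj (h := F.nh) rfl, step,
    if_neg (by norm_num), p1, p2, p3]

end Sec

end Cfsg.Agent.Lib.Fi24Thompson95
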