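import Mathlib
import Cfsg.Agent.Lib.Fi24Thompson95.Frame
import Cfsg.Prelude.Def_Transfer

/-!
`A` in the whole group: the Thompson subgroup of a Sylow 2-subgroup, weakly closed, so its normaliser controls fusion.
-/

set_option autoImplicit false

namespace Cfsg.Agent.Lib.Fi24Thompson95

open Cfsg.Agent.Lib
open Cfsg.Agent.Lib.Fi24Type47 (Au mat ap enc dec sylL kL fixK nuA)
open Cfsg.Agent.Lib.Fi24Type47.Rep (zC)

variable {G : Type*} [Group G] {z : G} {Q : Subgroup (Subgroup.centralizer ({z} : Set G))} [Q.Normal]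

namespace Frame

variable (F : Frame Q)

/-- `A` as a subgroup of `G`. -/
def Ag : Subgroup G := F.A.map (Subgroup.centralizer ({z} : Set G)).subtype

/-- The Sylow subgroup as a subgroup of `G`. -/
def Tg : Subgroup G :=
  (F.T : Subgroup (Subgroup.centralizer ({z} : Set G))).map (Subgroup.centralizer ({z} : Set G)).subtype

/-- The normaliser of `A`. -/
abbrev M : Subgroup G := Subgroup.normalizer (F.Ag : Set G)

theorem coe_mem_Ag {a : Subgroup.centralizer ({z} : Set G)} : (a : G) ∈ F.Ag ↔ a ∈ F.A :=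
  Subgroup.mem_map_iff_mem (Subgroup.centralizer ({z} : Set G)).subtype_injective

theorem card_Ag : Nat.card F.Ag = 2 ^ 11 := by
  rw [← F.card_A]
  exact (Nat.card_congr (F.A.equivMapOfInjective _ (Subgroup.centralizer ({z} : Set G)).subtype_injective).toEquiv).symm

theorem Ag_sq {a : G} (ha : a ∈ F.Ag) : a * a = 1 := by
  obtain ⟨b, hb, rfl⟩ := ha
  rw [← map_mul, F.A_sq b hb, map_one]

theorem z_mem_Ag : z ∈ F.Ag := ⟨zC z, F.zC_mem, rfl⟩

theorem Ag_le_Tg : F.Ag ≤ F.Tg := Subgroup.map_mono F.A_le_T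

theorem Tg_isPGroup : IsPGroup 2 F.Tg := F.T.isPGroup'.map _

/-- An element of `T` centralising `T` is `1` or `z`. -/
theorem centre_T [Finite G] {c : Subgroup.centralizer ({z} : Set G)}
    (h : ∀ t ∈ (F.T : Subgroup (Subgroup.centralizer ({z} : Set G))), c * t = t * c) : c = 1 ∨ c = zC z := by
  have hcent : ∀ q ∈ Q, c * q = q * c := fun q hq => h q (F.Q_le_T hq)
  have hcQ : c ∈ Q := (FischerType.mem_map_iff c).1 (F.R.D.good.cent (c : G) fun q hq => by
    obtain ⟨q', hq', rfl⟩ := hq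
    exact congrArg Subtype.val (hcent q' hq'))
  rcases F.R.D.good.centre (c : G) ((FischerType.mem_map_iff c).2 hcQ) (fun q hq => by
    obtain ⟨q', hq', rfl⟩ := hq
    exact congrArg Subtype.val (hcent q' hq')) with e | e
  · exact Or.inl (Subtype.ext e)
  · exact Or.inr (Subtype.ext e)

/-- A Sylow 2-subgroup of `C(z)` is one of `G`. -/
theorem exists_sylow_G [Finite G] : ∃ S : Sylow 2 G, (S : Subgroup G) = F.Tg := by
  classical
  haveI : Fact (Nat.Prime 2) := ⟨Nat.prime_two⟩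
  obtain ⟨S, hS⟩ := F.Tg_isPGroup.exists_le_sylow
  refine ⟨S, le_antisymm ?_ hS⟩
  by_contra hcon
  haveI hnilp : Group.IsNilpotent S := S.isPGroup'.isNilpotent
  have hne : F.Tg.subgroupOf S ≠ ⊤ := fun e => hcon (Subgroup.subgroupOf_eq_top.1 e)
  have hlt := Group.normalizerCondition_of_isNilpotent (G := S) (F.Tg.subgroupOf S) hne.lt_top
  obtain ⟨s, hs, hsT⟩ := SetLike.exists_of_lt hlt
  rw [Subgroup.mem_normalizer_iff] at hs
  have hconj : ∀ t ∈ F.Tg, (s : G) * t * (s : G)⁻¹ ∈ F.Tg := fun t ht =>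
    Subgroup.mem_subgroupOf.1 ((hs ⟨t, hS ht⟩).1 (Subgroup.mem_subgroupOf.2 ht))
  have hconj' : ∀ t ∈ F.Tg, (s : G)⁻¹ * t * (s : G) ∈ F.Tg := fun t ht => by
    refine Subgroup.mem_subgroupOf.1 ((hs ⟨(s : G)⁻¹ * t * (s : G), S.mul_mem (S.mul_mem (inv_mem s.2) (hS ht))
      s.2⟩).2 (Subgroup.mem_subgroupOf.2 ?_))
    show (s : G) * ((s : G)⁻¹ * t * s) * (s : G)⁻¹ ∈ F.Tg
    rwa [show (s : G) * ((s : G)⁻¹ * t * s) * (s : G)⁻¹ = t by group]
  have hzT : z ∈ F.Tg := F.Ag_le_Tg F.z_mem_Ag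
  obtain ⟨c, hc, hce⟩ := hconj z hzT
  have hcc : ∀ t ∈ (F.T : Subgroup (Subgroup.centralizer ({z} : Set G))), c * t = t * c := fun t ht => by
    refine Subtype.ext ?_
    show (c : G) * t = t * c
    obtain ⟨u, hu, hue⟩ := hconj' t ⟨t, ht, rfl⟩
    have hzu : (u : G) * z = z * u := Subgroup.mem_centralizer_singleton_iff.1 u.2
    rw [show (c : G) = s * z * (s : G)⁻¹ from hce]
    have hte : (t : G) = s * (u : G) * (s : G)⁻¹ := by
      rw [show (u : G) = (s : G)⁻¹ * t * s from hue]; group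
    calc (s : G) * z * (s : G)⁻¹ * t = s * (z * u) * (s : G)⁻¹ := by rw [hte]; group
      _ = t * (s * z * (s : G)⁻¹) := by rw [← hzu, hte]; group
  have hsz : (s : G) * z = z * s := by
    rcases F.centre_T hcc with e | e
    · exfalso
      rw [e] at hce
      have : (s : G) * z * (s : G)⁻¹ = 1 := hce.symm
      rw [mul_inv_eq_one, mul_eq_left] at this
      exact F.R.D.good.x_ne this
    · rw [e] at hce
      exact mul_inv_eq_iff_eq_mul.1 hce.symm
  set s' : Subgroup.centralizer ({z} : Set G) := ⟨s, Subgroup.mem_centralizer_singleton_iff.2 hsz⟩ with hs'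
  have hpz : IsPGroup 2 (Subgroup.zpowers s') := by
    intro x
    obtain ⟨k, hk⟩ := S.isPGroup' s
    refine ⟨k, Subtype.ext ?_⟩
    obtain ⟨i, hi⟩ := Subgroup.mem_zpowers_iff.1 x.2
    rw [Subgroup.coe_pow, ← hi, ← zpow_natCast, ← zpow_mul, mul_comm, zpow_mul, zpow_natCast,
      show s' ^ (2 ^ k) = 1 from Subtype.ext (by
        rw [Subgroup.coe_pow]; exact (congrArg (Subtype.val) hk : _)), one_zpow]
    rfl
  have hnormT : Subgroup.zpowers s' ≤ Subgroup.normalizer ((F.T : Subgroup (Subgroup.centralizer ({z} : Set G))) : Set (Subgroup.centralizer ({z} : Set G))) := by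
    rw [Subgroup.zpowers_le, Subgroup.mem_normalizer_iff]
    intro t
    constructor
    · intro ht
      obtain ⟨u, hu, hue⟩ := hconj t ⟨t, ht, rfl⟩
      rwa [show s' * t * s'⁻¹ = u from Subtype.ext hue.symm]
    · intro ht
      obtain ⟨u, hu, hue⟩ := hconj' _ ⟨_, ht, rfl⟩
      rwa [show t = u from Subtype.ext (by
        show (t : G) = u
        rw [show (u : G) = (s : G)⁻¹ * ((s : G) * t * (s : G)⁻¹) * s from hue]; group)]
  have hle : Subgroup.zpowers s' ≤ (F.T : Subgroup (Subgroup.centralizer ({z} : Set G))) := by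
    rw [← F.T.is_maximal' (hpz.to_sup_of_normal_right' F.T.isPGroup' hnormT) le_sup_right]
    exact le_sup_left
  exact hsT (Subgroup.mem_subgroupOf.2 ⟨s', hle (Subgroup.mem_zpowers _), rfl⟩)

/-- `A` is the only elementary abelian subgroup of `T` of its order or more. -/
theorem unique_Tg [Finite G] {B : Subgroup G} (hB : B ≤ F.Tg) (hsq : ∀ b ∈ B, b * b = 1)
    (hc : 2 ^ 11 ≤ Nat.card B) : B = F.Ag := by
  classical
  set H := Subgroup.centralizer ({z} : Set G)
  have hBH : B ≤ H := hB.trans (Subgroup.map_subtype_le _)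
  let B' : Subgroup H := B.subgroupOf H
  have hB'c : Nat.card B' = Nat.card B := Nat.card_congr (Subgroup.subgroupOfEquivOfLe hBH).toEquiv
  let B'' : Subgroup H :=
    { carrier := {h | h ∈ B' ∨ h * zC z ∈ B'}
      one_mem' := Or.inl (one_mem _)
      mul_mem' := fun {a b} ha hb => by
        have hcb := Fi24Type47.Rep.zC_comm b
        have hzz := F.R.zC_facts.2.1
        rcases ha with ha | ha <;> rcases hb with hb | hb
        · exact Or.inl (mul_mem ha hb)
        · exact Or.inr (by rw [mul_assoc]; exact mul_mem ha hb)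
        · refine Or.inr ?_
          rw [mul_assoc, hcb, ← mul_assoc]
          exact mul_mem ha hb
        · refine Or.inl ?_
          have h := mul_mem ha hb
          rwa [mul_assoc, ← mul_assoc (zC z) b, ← hcb, mul_assoc b, hzz, mul_one] at h
      inv_mem' := fun {a} ha => by
        rcases ha with ha | ha
        · exact Or.inl (inv_mem ha)
        · refine Or.inr ?_
          have h := inv_mem ha
          rwa [mul_inv_rev, inv_eq_of_mul_eq_one_right F.R.zC_facts.2.1, ← Fi24Type47.Rep.zC_comm] at h }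
  have hsq' : ∀ h ∈ B'', h * h = 1 := by
    intro h hh
    rcases hh with hh | hh
    · exact Subtype.ext (hsq _ hh)
    · have h1 : h * zC z * (h * zC z) = 1 := Subtype.ext (hsq _ hh)
      rwa [mul_assoc, ← mul_assoc (zC z) h, ← Fi24Type47.Rep.zC_comm h, mul_assoc h, F.R.zC_facts.2.1, mul_one] at h1
  have hT : ∀ h ∈ B'', h ∈ (F.T : Subgroup H) := by
    intro h hh
    rcases hh with hh | hh
    · obtain ⟨t, ht, e⟩ := hB hh
      rwa [← Subtype.ext e]
    · obtain ⟨t, ht, e⟩ := hB hh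
      have := mul_mem ht (inv_mem (F.A_le_T F.zC_mem))
      have he : t = h * zC z := Subtype.ext e
      rwa [show t * (zC z)⁻¹ = h by rw [he, mul_inv_cancel_right]] at this
  have hle : B' ≤ B'' := fun h hh => Or.inl hh
  have hA : B'' = F.A := F.R.unique_A F.card_A F.A_sq F.A_Q F.A_img B'' (fun b hb => F.T_syl b (hT b hb)) hsq'
    (Or.inr (by rw [F.R.zC_facts.2.1]; exact one_mem _)) (hc.trans (hB'c ▸ Subgroup.card_le_of_le hle))
  have hA' : B' = F.A := Subgroup.eq_of_le_of_card_ge (hA ▸ hle) (by rw [F.card_A, hB'c]; exact hc)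
  rw [Ag, ← hA', Subgroup.map_subgroupOf_eq_of_le hBH]

/-- In every Sylow 2-subgroup of `G` the conjugate of `A` is the only one of its order. -/
theorem unique_in_sylow [Finite G] (S : Sylow 2 G) : ∃ g : G,
    F.Ag.map (MulAut.conj g).toMonoidHom ≤ S ∧ ∀ B : Subgroup G, B ≤ S → (∀ b ∈ B, b * b = 1) →
      2 ^ 11 ≤ Nat.card B → B = F.Ag.map (MulAut.conj g).toMonoidHom := by
  haveI : Fact (Nat.Prime 2) := ⟨Nat.prime_two⟩
  obtain ⟨S1, hS1⟩ := F.exists_sylow_G
  obtain ⟨g, hg⟩ := MulAction.exists_smul_eq G S1 S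
  have hS : (S : Subgroup G) = F.Tg.map (MulAut.conj g).toMonoidHom := by
    rw [← hg, Sylow.coe_subgroup_smul, hS1]; rfl
  refine ⟨g, hS ▸ Subgroup.map_mono F.Ag_le_Tg, fun B hB hsq hc => ?_⟩
  have h := F.unique_Tg (B := B.map (MulAut.conj g⁻¹).toMonoidHom) ?_ ?_ ?_
  · rw [← h, Subgroup.map_map]
    conv_lhs => rw [← Subgroup.map_id B]
    congr 1
    ext b
    simp [mul_assoc]
  · rintro _ ⟨b, hb, rfl⟩
    obtain ⟨t, ht, rfl⟩ := (hS ▸ hB hb : b ∈ F.Tg.map (MulAut.conj g).toMonoidHom)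
    simpa [mul_assoc] using ht
  · rintro _ ⟨b, hb, rfl⟩
    rw [← map_mul, hsq b hb, map_one]
  · rw [← Nat.card_congr (B.equivMapOfInjective _ (MulAut.conj g⁻¹).injective).toEquiv]
    exact hc

/-- The Thompson subgroup of any Sylow 2-subgroup. -/
theorem thompson_eq [Finite G] (S : Sylow 2 G) : ∃ g : G,
    Cfsg.thompsonSubgroupOf 2 (S : Subgroup G) = F.Ag.map (MulAut.conj g).toMonoidHom := by
  obtain ⟨g, hle, huniq⟩ := F.unique_in_sylow S
  refine ⟨g, ?_⟩
  set A1 := F.Ag.map (MulAut.conj g).toMonoidHom with hA1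
  have hcard : Nat.card A1 = 2 ^ 11 := by
    rw [hA1, ← Nat.card_congr (F.Ag.equivMapOfInjective _ (MulAut.conj g).injective).toEquiv, F.card_Ag]
  have hsq1 : ∀ a ∈ A1, a * a = 1 := by
    rintro _ ⟨a, ha, rfl⟩
    rw [← map_mul, F.Ag_sq ha, map_one]
  set A' : Subgroup ↥(S : Subgroup G) := A1.subgroupOf S with hA'
  have hA'c : Nat.card A' = 2 ^ 11 := by
    rw [← hcard]; exact Nat.card_congr (Subgroup.subgroupOfEquivOfLe hle).toEquiv
  have key : ∀ B : Subgroup ↥(S : Subgroup G), Cfsg.IsElementaryAbelian 2 B → 2 ^ 11 ≤ Nat.card B → B = A' := by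
    intro B hB hc
    have he : B.map (S : Subgroup G).subtype = A1 := by
      refine huniq _ (Subgroup.map_subtype_le B) ?_ ?_
      · rintro _ ⟨b, hb, rfl⟩
        rw [← map_mul, ← pow_two, hB.2 b hb, map_one]
      · rw [← Nat.card_congr (B.equivMapOfInjective _ (S : Subgroup G).subtype_injective).toEquiv]
        exact hc
    exact Subgroup.map_injective (S : Subgroup G).subtype_injective
      (he.trans (Subgroup.map_subgroupOf_eq_of_le hle).symm)
  have helem : Cfsg.IsElementaryAbelian 2 A' := by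
    have hsq : ∀ x ∈ A', x * x = 1 := fun x hx => Subtype.ext (hsq1 _ hx)
    refine ⟨IsMulCommutative.of_comm fun x y => Subtype.ext ?_, fun x hx => by rw [pow_two]; exact hsq x hx⟩
    have hxy := hsq _ (mul_mem x.2 y.2)
    calc (x : ↥(S : Subgroup G)) * y = ((x : ↥(S : Subgroup G)) * y)⁻¹ := (inv_eq_of_mul_eq_one_right hxy).symm
      _ = y * x := by rw [mul_inv_rev, inv_eq_of_mul_eq_one_right (hsq _ x.2), inv_eq_of_mul_eq_one_right (hsq _ y.2)]
  have hset : Cfsg.maxElementaryAbelianSubgroups 2 ↥(S : Subgroup G) = {A'} := by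
    refine Set.eq_singleton_iff_unique_mem.2 ⟨⟨helem, fun B hB => ?_⟩, fun B hB => key B hB.1 ?_⟩
    · by_contra hlt
      push Not at hlt
      rw [hA'c] at hlt
      rw [key B hB hlt.le, hA'c] at hlt
      exact lt_irrefl _ hlt
    · exact hA'c ▸ hB.2 A' helem
  rw [Cfsg.thompsonSubgroupOf, Cfsg.thompsonSubgroup, hset, sSup_singleton, hA', Subgroup.map_subgroupOf_eq_of_le hle]

/-- Elements of `A` conjugate in `G` are conjugate in the normaliser. -/
theorem fusion [Finite G] {a : G} (ha : a ∈ F.Ag) {g : G} (hg : g * a * g⁻¹ ∈ F.Ag) :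
    ∃ m ∈ F.M, m * a * m⁻¹ = g * a * g⁻¹ := by
  classical
  haveI : Fact (Nat.Prime 2) := ⟨Nat.prime_two⟩
  set b := g * a * g⁻¹ with hb
  set C := Subgroup.centralizer ({b} : Set G) with hC
  set A2 := F.Ag.map (MulAut.conj g).toMonoidHom with hA2
  have hcomm : ∀ x ∈ F.Ag, ∀ y ∈ F.Ag, x * y = y * x := fun x hx y hy => by
    obtain ⟨x', hx', rfl⟩ := hx
    obtain ⟨y', hy', rfl⟩ := hy
    rw [← map_mul, ← map_mul, F.A_comm hx' hy']
  have h1 : F.Ag ≤ C := fun x hx => Subgroup.mem_centralizer_singleton_iff.2 (hcomm x hx b hg)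
  have h2 : A2 ≤ C := by
    rintro _ ⟨x, hx, rfl⟩
    refine Subgroup.mem_centralizer_singleton_iff.2 ?_
    show (MulAut.conj g).toMonoidHom x * (MulAut.conj g).toMonoidHom a =
      (MulAut.conj g).toMonoidHom a * (MulAut.conj g).toMonoidHom x
    rw [← map_mul, ← map_mul, hcomm x hx a ha]
  have hAp : IsPGroup 2 F.Ag := IsPGroup.of_card F.card_Ag
  obtain ⟨P1, hP1⟩ := (hAp.of_equiv (Subgroup.subgroupOfEquivOfLe h1).symm : IsPGroup 2 (F.Ag.subgroupOf C)).exists_le_sylow
  obtain ⟨P2, hP2⟩ := ((hAp.map (MulAut.conj g).toMonoidHom).of_equiv (Subgroup.subgroupOfEquivOfLe h2).symm :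
    IsPGroup 2 (A2.subgroupOf C)).exists_le_sylow
  obtain ⟨c, hc⟩ := MulAction.exists_smul_eq C P2 P1
  obtain ⟨S, hS⟩ := (P1.isPGroup'.map C.subtype).exists_le_sylow
  obtain ⟨k, hk, huniq⟩ := F.unique_in_sylow S
  have e1 := huniq F.Ag (fun x hx => hS ⟨⟨x, h1 hx⟩, hP1 (Subgroup.mem_subgroupOf.2 hx), rfl⟩)
    (fun x hx => F.Ag_sq hx) F.card_Ag.ge
  have e2 := huniq (A2.map (MulAut.conj (c : G)).toMonoidHom) (by
      rintro _ ⟨x, hx, rfl⟩
      refine hS ⟨c * ⟨x, h2 hx⟩ * c⁻¹, ?_, rfl⟩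
      rw [← hc, Sylow.coe_subgroup_smul]
      exact Subgroup.smul_mem_pointwise_smul _ (MulAut.conj c) _ (hP2 (Subgroup.mem_subgroupOf.2 hx)))
    (by
      rintro _ ⟨x, ⟨y, hy, rfl⟩, rfl⟩
      rw [← map_mul, ← map_mul, F.Ag_sq hy, map_one, map_one])
    (by
      rw [hA2, Subgroup.map_map, ← Nat.card_congr (F.Ag.equivMapOfInjective _
        ((MulAut.conj (c : G)).injective.comp (MulAut.conj g).injective :
          Function.Injective ((MulAut.conj (c : G)).toMonoidHom.comp (MulAut.conj g).toMonoidHom))).toEquiv, F.card_Ag])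
  have hfix : F.Ag.map (MulAut.conj ((c : G) * g)).toMonoidHom = F.Ag := by
    rw [map_mul, show ((MulAut.conj (c : G) * MulAut.conj g : MulAut G)).toMonoidHom =
      (MulAut.conj (c : G)).toMonoidHom.comp (MulAut.conj g).toMonoidHom from rfl, ← Subgroup.map_map, ← hA2, e2, ← e1]
  refine ⟨(c : G) * g, Subgroup.mem_normalizer_iff.2 fun x => ⟨fun hx => ?_, fun hx => ?_⟩, ?_⟩
  · exact hfix ▸ ⟨x, hx, rfl⟩
  · rw [← hfix] at hx
    obtain ⟨y, hy, e⟩ := hx
    rwa [← (MulAut.conj ((c : G) * g)).injective e]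
  · have hcb : (c : G) * b = b * c := Subgroup.mem_centralizer_singleton_iff.1 c.2
    calc (c : G) * g * a * ((c : G) * g)⁻¹ = (c : G) * b * (c : G)⁻¹ := by rw [hb]; group
      _ = b := mul_inv_eq_iff_eq_mul.2 hcb

end Frame

end Cfsg.Agent.Lib.Fi24Thompson95
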