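import Mathlib
import Cfsg.Agent.Lib.Fi24Thompson95.Global
import Cfsg.Agent.Lib.Fi24Thompson95.Coords
import Cfsg.Agent.S5440
import Cfsg.Prelude.Def_MonsterType

/-!
Conjugates of `z` in `Q` and the divisors of the size of a class in `A`.
-/

set_option autoImplicit false

namespace Cfsg.Agent.Lib.Fi24Thompson95

open Cfsg.Agent.Lib
open Cfsg.Agent.Lib.Fi24Type47 (Au mat ap enc dec kL fixK clN clW)
open Cfsg.Agent.Lib.Fi24Type47.Rep (zC)
open Cfsg.Agent.Lib.FischerType (W6 wt Sing inG repW blk)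

variable {G : Type*} [Group G] [Finite G] {z : G} {Q : Subgroup (Subgroup.centralizer ({z} : Set G))} [Q.Normal]

theorem isConj_coe {x y : Subgroup.centralizer ({z} : Set G)} {h : Subgroup.centralizer ({z} : Set G)}
    (e : h * x * h⁻¹ = y) : IsConj z (x : G) ↔ IsConj z (y : G) := by
  have hc : IsConj (x : G) (y : G) := isConj_iff.2 ⟨h, by rw [← e]; rfl⟩
  exact ⟨fun hx => hx.trans hc, fun hy => hy.trans hc.symm⟩

namespace Frame

variable (F : Frame Q)

/-- The class of `z` meets the involutions of `Q` other than `z` in one of the two kinds. -/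
theorem exists_class : ∃ k : ℕ, (k = 1 ∨ k = 2) ∧
    ∀ x ∈ F.R.X0, F.vec x ≠ 0 → (IsConj z (x : G) ↔ clN (F.vec x) = k) := by
  classical
  obtain ⟨s, t, hsQ, htQ, hs2, ht2, hsz, htz, hst, htwo⟩ := S5440.result z Q F.hF
  -- classes are invariant
  have hinv : ∀ (h x : Subgroup.centralizer ({z} : Set G)), x ∈ Q → clN (F.vec (h * x * h⁻¹)) = clN (F.vec x) := by
    intro h x hx
    have hx' := (inferInstance : Q.Normal).conj_mem x hx h
    rw [F.vec_eq ⟨x, hx⟩, F.vec_eq ⟨_, hx'⟩, Fi24Type47.clN_enc, Fi24Type47.clN_enc,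
      ← F.R.vv_img ⟨x, hx⟩ ⟨_, hx'⟩ rfl]
    exact (Fi24Type47.mem_Au.1 (F.R.img h).2).2 _
  have hinvol : ∀ x ∈ F.R.X0, F.vec x ≠ 0 → orderOf x = 2 ∧ (x : G) ≠ z := by
    intro x hx hv
    refine ⟨orderOf_eq_prime (by rw [pow_two]; exact F.R.X0_sq hx) fun e => hv ?_, fun e => hv ?_⟩
    · rw [e]; exact F.vec_one
    · rw [show x = zC z from Subtype.ext e]; exact F.vec_zC
  have hex : ∀ k, k = 1 ∨ k = 2 → ∃ x ∈ F.R.X0, F.vec x ≠ 0 ∧ clN (F.vec x) = k := by
    intro k hk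
    obtain ⟨w, hw, hwk⟩ : ∃ w ∈ fixK, clN w = k := by
      have h : fixK.any (fun w => clN w == 1) = true ∧ fixK.any (fun w => clN w == 2) = true := by decide +kernel
      rcases hk with rfl | rfl
      · obtain ⟨w, hw, e⟩ := List.any_eq_true.1 h.1; exact ⟨w, hw, eq_of_beq e⟩
      · obtain ⟨w, hw, e⟩ := List.any_eq_true.1 h.2; exact ⟨w, hw, eq_of_beq e⟩
    have hw' := List.all_eq_true.1 Fi24Type47.fixK_ok.2.2.1 w hw
    simp only [Bool.and_eq_true, decide_eq_true_eq] at hw'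
    obtain ⟨q, hq⟩ := F.R.vv_surj (dec w)
    have hv : F.vec q = w := by rw [F.vec_eq, hq, Fi24Type47.enc_dec hw'.1]
    refine ⟨q, ⟨q.2, ?_⟩, fun e => ?_, by rw [hv]; exact hwk⟩
    · rw [show (⟨_, q.2⟩ : Q) = q from rfl, hq, Fi24Type47.enc_dec hw'.1]; exact hw
    · rw [hv] at e
      rw [e, show clN 0 = 0 by decide +kernel] at hwk
      omega
  obtain ⟨x1, hx1, hv1, hc1⟩ := hex 1 (Or.inl rfl)
  obtain ⟨x2, hx2, hv2, hc2⟩ := hex 2 (Or.inr rfl)
  have hkind : ∀ x, x ∈ Q → orderOf x = 2 → (x : G) ≠ z →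
      (∃ h, h * x1 * h⁻¹ = x) ∨ ∃ h, h * x2 * h⁻¹ = x := by
    intro x hxQ hxo hxz
    obtain ⟨ho1, hz1⟩ := hinvol x1 hx1 hv1
    obtain ⟨ho2, hz2⟩ := hinvol x2 hx2 hv2
    have hne : ¬ ∃ h, h * x1 * h⁻¹ = x2 := fun ⟨h, e⟩ => by
      have := hinv h x1 (F.R.X0_le hx1)
      rw [e, hc1, hc2] at this
      omega
    have hjoin : ∀ (a b c : Subgroup.centralizer ({z} : Set G)), (∃ h, h * c * h⁻¹ = a) → (∃ h, h * c * h⁻¹ = b) →
        ∃ h, h * a * h⁻¹ = b := fun a b c ⟨h, e⟩ ⟨h', e'⟩ => ⟨h' * h⁻¹, by rw [← e', ← e]; group⟩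
    rcases htwo x1 (F.R.X0_le hx1) ho1 hz1 with e1 | e1 <;> rcases htwo x2 (F.R.X0_le hx2) ho2 hz2 with e2 | e2 <;>
      rcases htwo x hxQ hxo hxz with e | e
    · exact absurd (hjoin _ _ _ e1 e2) hne
    · exact absurd (hjoin _ _ _ e1 e2) hne
    · exact Or.inl (hjoin _ _ _ e1 e)
    · exact Or.inr (hjoin _ _ _ e2 e)
    · exact Or.inr (hjoin _ _ _ e2 e)
    · exact Or.inl (hjoin _ _ _ e1 e)
    · exact absurd (hjoin _ _ _ e1 e2) hne
    · exact absurd (hjoin _ _ _ e1 e2) hne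
  -- not all are conjugate to `z`
  have hnot : ¬ (IsConj z (x1 : G) ∧ IsConj z (x2 : G)) := by
    rintro ⟨h1, h2⟩
    obtain ⟨a, ha, ha2, haz⟩ := F.R.D.exists_of_sing (FischerType.rep_sing 0).1
    have hconj : IsConj z (inG z Q a) := by
      rcases hkind a a.2 ha2 haz with ⟨h, e⟩ | ⟨h, e⟩
      · exact (isConj_coe e).1 h1
      · exact (isConj_coe e).1 h2
    obtain ⟨-, l, hl⟩ := F.R.D.conj_large hconj haz
    obtain ⟨k, hk2, hsmall, -, -, -⟩ := F.R.D.orbits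
    rw [← F.R.D.Ψ_vec, ha] at hl
    rcases (hsmall _ (FischerType.rep_sing 1).1).1 ⟨l⁻¹, by rw [← hl, inv_smul_smul]⟩ with e | e
    · rw [(FischerType.rep_sing 1).2] at e
      exact absurd e (by decide)
    · rw [(FischerType.rep_sing 1).2] at e
      subst e
      exact absurd hk2 (by decide)
  -- one of them is
  have hone : IsConj z (x1 : G) ∨ IsConj z (x2 : G) := by
    obtain ⟨⟨-, -, -, -, g, ⟨hq, hgQ⟩, hgz⟩, -⟩ := F.hF
    have ho : orderOf (⟨g * z * g⁻¹, hq⟩ : Subgroup.centralizer ({z} : Set G)) = 2 := by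
      refine orderOf_eq_prime (Subtype.ext ?_) fun e => F.R.D.good.x_ne ?_
      · show (g * z * g⁻¹) ^ 2 = 1
        rw [conj_pow, pow_two, F.R.D.good.x_sq]; group
      · have h := congrArg Subtype.val e
        change g * z * g⁻¹ = 1 at h
        rw [mul_inv_eq_one, mul_eq_left] at h
        exact h
    have hc : IsConj z (g * z * g⁻¹) := isConj_iff.2 ⟨g, rfl⟩
    rcases hkind _ hgQ ho hgz with ⟨h, e⟩ | ⟨h, e⟩
    · exact Or.inl ((isConj_coe e).2 hc)
    · exact Or.inr ((isConj_coe e).2 hc)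
  have hfin : ∀ x ∈ F.R.X0, F.vec x ≠ 0 → ((IsConj z (x1 : G) ∧ clN (F.vec x) = 1) ∨
      (IsConj z (x2 : G) ∧ clN (F.vec x) = 2) ↔ IsConj z (x : G)) ∧ (clN (F.vec x) = 1 ∨ clN (F.vec x) = 2) := by
    intro x hx hv
    obtain ⟨ho, hz'⟩ := hinvol x hx hv
    rcases hkind x (F.R.X0_le hx) ho hz' with ⟨h, e⟩ | ⟨h, e⟩
    · have hc := hinv h x1 (F.R.X0_le hx1)
      rw [e, hc1] at hc
      exact ⟨⟨fun h' => h'.elim (fun h' => (isConj_coe e).1 h'.1) (fun h' => absurd (hc.symm.trans h'.2) (by decide)),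
        fun h' => Or.inl ⟨(isConj_coe e).2 h', hc⟩⟩, Or.inl hc⟩
    · have hc := hinv h x2 (F.R.X0_le hx2)
      rw [e, hc2] at hc
      exact ⟨⟨fun h' => h'.elim (fun h' => absurd (hc.symm.trans h'.2) (by decide)) (fun h' => (isConj_coe e).1 h'.1),
        fun h' => Or.inr ⟨(isConj_coe e).2 h', hc⟩⟩, Or.inr hc⟩
  rcases hone with h | h
  · refine ⟨1, Or.inl rfl, fun x hx hv => ⟨fun hc => ?_, fun hc => ((hfin x hx hv).1).1 (Or.inl ⟨h, hc⟩)⟩⟩
    rcases ((hfin x hx hv).1).2 hc with e | e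
    · exact e.2
    · exact absurd ⟨h, e.1⟩ hnot
  · refine ⟨2, Or.inr rfl, fun x hx hv => ⟨fun hc => ?_, fun hc => ((hfin x hx hv).1).1 (Or.inr ⟨h, hc⟩)⟩⟩
    rcases ((hfin x hx hv).1).2 hc with e | e
    · exact absurd ⟨e.1, h⟩ hnot
    · exact e.2

/-- The size of the class of `z` in `A` divides the order of the normaliser. -/
theorem ncard_dvd : {a : G | a ∈ F.Ag ∧ IsConj z a}.ncard ∣ Nat.card F.M := by
  letI : MulAction F.M G := MulAction.compHom G (ConjAct.toConjAct.toMonoidHom.comp F.M.subtype)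
  have hsmul : ∀ (m : F.M) (a : G), m • a = (m : G) * a * (m : G)⁻¹ := fun _ _ => rfl
  have he : {a : G | a ∈ F.Ag ∧ IsConj z a} = MulAction.orbit F.M z := by
    ext a
    constructor
    · rintro ⟨ha, hc⟩
      obtain ⟨g, hg⟩ := isConj_iff.1 hc
      obtain ⟨m, hm, e⟩ := F.fusion F.z_mem_Ag (g := g) (by rw [hg]; exact ha)
      exact ⟨⟨m, hm⟩, by show (⟨m, hm⟩ : F.M) • z = a; rw [hsmul, ← hg]; exact e⟩
    · rintro ⟨m, rfl⟩
      show m • z ∈ F.Ag ∧ IsConj z (m • z)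
      rw [hsmul]
      exact ⟨(Subgroup.mem_normalizer_iff.1 m.2 z).1 F.z_mem_Ag, isConj_iff.2 ⟨m, rfl⟩⟩
  rw [he, ← Nat.card_coe_set_eq]
  exact ⟨_, by
    rw [← Nat.card_prod]
    exact (Nat.card_congr (MulAction.orbitProdStabilizerEquivGroup F.M z)).symm⟩

/-- A prime dividing the order of the normaliser divides some `2^j - 1`. -/
theorem not_dvd_card_M {p : ℕ} (hp : p ∈ badPrimes) : ¬ p ∣ Nat.card F.M := by
  intro hd
  have hpp := bad_prime p hp
  haveI : Fact p.Prime := ⟨hpp⟩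
  haveI : Fact (Nat.Prime 2) := ⟨Nat.prime_two⟩
  obtain ⟨g, hg⟩ := exists_prime_orderOf_dvd_card' p hd
  have hPg : IsPGroup p (Subgroup.zpowers g) := IsPGroup.of_card (n := 1) (by rw [pow_one, Nat.card_zpowers, hg])
  letI : MulAction (Subgroup.zpowers g) F.Ag := MulAction.compHom _
    (F.Ag.normalizerMonoidHom.comp (Subgroup.zpowers g).subtype)
  have hmod := hPg.card_modEq_card_fixedPoints F.Ag
  set B : Subgroup G := F.Ag ⊓ Subgroup.centralizer ({(g : G)} : Set G) with hB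
  have hfix : Nat.card (MulAction.fixedPoints (Subgroup.zpowers g) F.Ag) = Nat.card B := by
    refine Nat.card_congr
      { toFun := fun a => ⟨a.1.1, a.1.2, Subgroup.mem_centralizer_singleton_iff.2 ?_⟩
        invFun := fun b => ⟨⟨b.1, b.2.1⟩, fun k => Subtype.ext ?_⟩
        left_inv := fun _ => rfl
        right_inv := fun _ => rfl }
    · have h := congrArg Subtype.val (a.2 ⟨g, Subgroup.mem_zpowers g⟩)
      change (g : G) * a.1.1 * (g : G)⁻¹ = a.1.1 at h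
      exact (mul_inv_eq_iff_eq_mul.1 h).symm
    · obtain ⟨i, hi⟩ := Subgroup.mem_zpowers_iff.1 k.2
      show ((k : F.M) : G) * b.1 * ((k : F.M) : G)⁻¹ = b.1
      have hc : Commute (b.1 : G) (g : G) := Subgroup.mem_centralizer_singleton_iff.1 b.2.2
      rw [← hi, Subgroup.coe_zpow]
      exact mul_inv_eq_iff_eq_mul.2 ((hc.zpow_right i).symm.eq)
  rw [hfix, F.card_Ag] at hmod
  have hBdvd : Nat.card B ∣ 2 ^ 11 := F.card_Ag ▸ Subgroup.card_dvd_of_le inf_le_left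
  obtain ⟨i, hi, hBi⟩ := (Nat.dvd_prime_pow Nat.prime_two).1 hBdvd
  have hpodd : p ≠ 2 := by
    intro e
    rw [e] at hp
    exact absurd hp (by decide)
  rw [hBi] at hmod
  rcases Nat.eq_or_lt_of_le hi with rfl | hlt
  · have hall : B = F.Ag := Subgroup.eq_of_le_of_card_ge inf_le_left (by rw [hBi, F.card_Ag])
    have hgA : ∀ a ∈ F.A, (g : G) * (a : G) = (a : G) * g := fun a ha => by
      have h : (a : G) ∈ B := hall.symm ▸ F.coe_mem_Ag.2 ha
      exact (Subgroup.mem_centralizer_singleton_iff.1 h.2).symm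
    obtain ⟨a, ha, hae⟩ := F.cent_A hgA
    have h2 : orderOf g ∣ 2 := orderOf_dvd_of_pow_eq_one (Subtype.ext (by
      show (g : G) ^ 2 = 1
      rw [← hae, pow_two]
      exact congrArg Subtype.val (F.A_sq a ha)))
    rw [hg] at h2
    exact hpodd ((Nat.prime_dvd_prime_iff_eq hpp Nat.prime_two).1 h2)
  · have hdd : p ∣ 2 ^ 11 - 2 ^ i := (Nat.modEq_iff_dvd' (Nat.pow_le_pow_right (by norm_num) hi)).1 hmod.symm
    rw [show 2 ^ 11 - 2 ^ i = 2 ^ i * (2 ^ (11 - i) - 1) by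
      rw [Nat.mul_sub, mul_one, ← pow_add, Nat.add_sub_cancel' hi]] at hdd
    rcases hpp.dvd_mul.1 hdd with h | h
    · exact hpodd ((Nat.prime_dvd_prime_iff_eq hpp Nat.prime_two).1 (hpp.dvd_of_dvd_pow h))
    · have hb := List.all_eq_true.1 (List.all_eq_true.1 bad_ok p hp) (10 - i) (List.mem_range.2 (by omega))
      rw [show 10 - i + 1 = 11 - i by omega, Nat.dvd_iff_mod_eq_zero.1 h] at hb
      exact absurd hb (by decide)

end Frame

end Cfsg.Agent.Lib.Fi24Thompson95
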