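import Mathlib
import Cfsg.Agent.Lib.Fi24Thompson95.Act
import Cfsg.Agent.Lib.Fi24Thompson95.Classes

/-!
The class of `z` in `A` has 1771 members: 91 inside `Q` and 112 in each of the fifteen other cosets.
-/

set_option autoImplicit false

namespace Cfsg.Agent.Lib.Fi24Thompson95

open Cfsg.Agent.Lib
open Cfsg.Agent.Lib.Fi24Type47 (Au mat ap enc dec kL fixK nuA nuM mulM getE clN wordEl)
open Cfsg.Agent.Lib.Fi24Type47.Rep (zC)

theorem count_by_root (f : ℕ → Bool) : ∀ (l : List ℕ) (r : ℕ → ℕ), (∀ i ∈ l, r i < 3) →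
    (l.filter fun i => f (r i)).length = cond (f 0) (l.filter fun i => r i == 0).length 0 +
      cond (f 1) (l.filter fun i => r i == 1).length 0 + cond (f 2) (l.filter fun i => r i == 2).length 0
  | [], r, _ => by cases f 0 <;> cases f 1 <;> cases f 2 <;> rfl
  | i :: l, r, h => by
    have ih := count_by_root f l r fun j hj => h j (List.mem_cons_of_mem i hj)
    have hi := h i List.mem_cons_self
    simp only [List.filter_cons]
    rcases (by omega : r i = 0 ∨ r i = 1 ∨ r i = 2) with e | e | e <;> rw [e] <;>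
      cases h0 : f 0 <;> cases h1 : f 1 <;> cases h2 : f 2 <;> simp [h0, h1, h2] at ih ⊢ <;> omega

variable {G : Type*} [Group G] [Finite G] {z : G} {Q : Subgroup (Subgroup.centralizer ({z} : Set G))} [Q.Normal]

namespace Frame

variable (F : Frame Q)

/-- The number of conjugates of `z` in a coset. -/
noncomputable def cnt (c : ℕ) : ℕ :=
  {a : Subgroup.centralizer ({z} : Set G) | a ∈ F.A ∧ F.cN a = c ∧ IsConj z (a : G)}.ncard

/-- An element normalising `A` and commuting with the lift of `ν`, from a word. -/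
theorem exists_mover {w p : List ℕ} (hwp : (w, p) ∈ [(word1, perm1), (word2, perm2)]) :
    ∃ h : Subgroup.centralizer ({z} : Set G), F.nh * h = h * F.nh ∧ (∀ a ∈ F.A, h * a * h⁻¹ ∈ F.A) ∧
      (∀ a ∈ F.A, h⁻¹ * a * h ∈ F.A) ∧ (∀ a ∈ F.A, F.cN (h * a * h⁻¹) = p.getD (F.cN a) 16) := by
  classical
  have hw := List.all_eq_true.1 words_act (w, p) hwp
  simp only [Bool.and_eq_true, List.all_eq_true, decide_eq_true_eq, beq_iff_eq] at hw
  obtain ⟨hj, hact⟩ := hw
  obtain ⟨f, hf, hfn, hfR⟩ := Fi24Type47.exists_word (w := w) (fun j hjw => by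
    have := hj j hjw
    exact this.trans_le (le_of_eq (show 3 = Fi24Type47.oddEls.length by decide +kernel)))
  obtain ⟨x, rfl⟩ := hfR _ F.R.index
  obtain ⟨c, rfl⟩ := QuotientGroup.mk_surjective x
  obtain ⟨h, hh, hhn⟩ := Fi24Type47.Rep.exists_fixed F.nh3 F.img_nh (c := c) hfn
  have hmat : ∀ a ∈ F.A, mat (F.R.img h * F.R.img a * (F.R.img h)⁻¹) = kC (p.getD (F.cN a) 16) := by
    intro a ha
    have hk := (hact _ (List.mem_range.2 (F.cN_lt ha))).2
    have hlt := (hact _ (List.mem_range.2 (F.cN_lt ha))).1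
    have hk' : kC (p.getD (F.cN a) 16) ∈ kL := by
      have h0 := List.all_eq_true.1 kCL_ok.1 _ (List.mem_range.2 hlt)
      simp only [Bool.and_eq_true] at h0
      exact List.contains_iff_mem.1 h0.1.1
    obtain ⟨g, hg, -⟩ := Fi24Type47.exists_lin (Fi24Type47.kL_lin _ hk')
    have e : F.R.img h * F.R.img a = g * F.R.img h := Fi24Type47.mat_inj (by
      rw [Fi24Type47.mat_mul, Fi24Type47.mat_mul, hh, show F.R.img c = F.R.ρ (QuotientGroup.mk c) from rfl, hf, hg,
        ← F.cN_img ha]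
      exact hk)
    rw [e, mul_inv_cancel_right, hg]
  have hA : ∀ a ∈ F.A, h * a * h⁻¹ ∈ F.A := fun a ha => F.norm_A (fun b hb => by
    have hlt := (hact _ (List.mem_range.2 (F.cN_lt hb))).1
    rw [hmat b hb]
    have h0 := List.all_eq_true.1 kCL_ok.1 _ (List.mem_range.2 hlt)
    simp only [Bool.and_eq_true] at h0
    exact kL_subset_syl _ (List.contains_iff_mem.1 h0.1.1)) ha
  refine ⟨h, hhn, hA, fun a ha => ?_, fun a ha => ?_⟩
  · have hle : F.A.map (MulAut.conj h).toMonoidHom ≤ F.A := by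
      rintro _ ⟨b, hb, rfl⟩; exact hA b hb
    have heq := Subgroup.eq_of_le_of_card_ge hle
      (Nat.card_congr (F.A.equivMapOfInjective _ (MulAut.conj h).injective).toEquiv).le
    obtain ⟨b, hb, e⟩ := heq.symm ▸ ha
    have : h⁻¹ * a * h = b := by
      rw [← e]; show h⁻¹ * (h * b * h⁻¹) * h = b; group
    rwa [this]
  · refine F.cN_of_mat ((hact _ (List.mem_range.2 (F.cN_lt ha))).1) ?_
    rw [map_mul, map_mul, map_inv]
    exact hmat a ha

theorem cnt_perm {w p : List ℕ} (hwp : (w, p) ∈ [(word1, perm1), (word2, perm2)]) {c : ℕ} (hc : c < 16) :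
    F.cnt (p.getD c 16) = F.cnt c := by
  obtain ⟨h, -, hA, hA', hp⟩ := F.exists_mover hwp
  have hinj : ∀ a < 16, ∀ b < 16, perm1.getD a 16 = perm1.getD b 16 → a = b := by decide +kernel
  have hinj2 : ∀ a < 16, ∀ b < 16, perm2.getD a 16 = perm2.getD b 16 → a = b := by decide +kernel
  have hpi : ∀ a < 16, ∀ b < 16, p.getD a 16 = p.getD b 16 → a = b := by
    simp only [List.mem_cons, Prod.mk.injEq, List.not_mem_nil, or_false] at hwp
    rcases hwp with ⟨-, rfl⟩ | ⟨-, rfl⟩
    exacts [hinj, hinj2]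
  symm
  refine Set.ncard_congr (fun a _ => h * a * h⁻¹) ?_ ?_ ?_
  · rintro a ⟨ha, hca, hz⟩
    exact ⟨hA a ha, by rw [hp a ha, hca], (isConj_coe rfl).1 hz⟩
  · intro a b _ _ e
    simpa using e
  · rintro b ⟨hb, hcb, hz⟩
    refine ⟨h⁻¹ * b * h, ⟨hA' b hb, hpi _ (F.cN_lt (hA' b hb)) _ hc ?_, (isConj_coe (h := h) (by group)).2 hz⟩, by group⟩
    rw [← hp _ (hA' b hb), ← hcb]
    congr 1
    group

theorem cnt_eq {c : ℕ} (hc : c < 16) (h0 : c ≠ 0) : F.cnt c = F.cnt 1 := by
  set P : ℕ → Prop := fun k => k < 16 ∧ F.cnt k = F.cnt 1 with hP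
  have hlt1 : ∀ k < 16, perm1.getD k 0 = perm1.getD k 16 ∧ perm1.getD k 16 < 16 := by decide +kernel
  have hlt2 : ∀ k < 16, perm2.getD k 0 = perm2.getD k 16 ∧ perm2.getD k 16 < 16 := by decide +kernel
  have key : ∀ (L : List ℕ) (s : List ℕ), (∀ k ∈ s, P k) →
      ∀ k ∈ L.foldl (fun s _ => (s ++ s.map (fun k => perm1.getD k 0) ++ s.map fun k => perm2.getD k 0).dedup) s,
        P k := by
    intro L
    induction L with
    | nil => exact fun s hs k hk => hs k hk
    | cons i L ih =>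
      intro s hs
      refine ih _ fun k hk => ?_
      rw [List.mem_dedup, List.mem_append, List.mem_append] at hk
      rcases hk with (hk | hk) | hk
      · exact hs k hk
      · obtain ⟨j, hj, rfl⟩ := List.mem_map.1 hk
        obtain ⟨hj16, hjc⟩ := hs j hj
        refine ⟨(hlt1 j hj16).1 ▸ (hlt1 j hj16).2, ?_⟩
        rw [(hlt1 j hj16).1, F.cnt_perm (w := word1) (p := perm1) (by simp) hj16, hjc]
      · obtain ⟨j, hj, rfl⟩ := List.mem_map.1 hk
        obtain ⟨hj16, hjc⟩ := hs j hj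
        refine ⟨(hlt2 j hj16).1 ▸ (hlt2 j hj16).2, ?_⟩
        rw [(hlt2 j hj16).1, F.cnt_perm (w := word2) (p := perm2) (by simp) hj16, hjc]
  have hmem := List.all_eq_true.1 perms_transitive (c - 1) (List.mem_range.2 (by omega))
  rw [show c - 1 + 1 = c by omega] at hmem
  exact (key _ [1] (fun k hk => by rw [List.mem_singleton.1 hk]; exact ⟨by norm_num, rfl⟩) c
    (List.contains_iff_mem.1 hmem)).2

end Frame

namespace Sec

variable {F : Frame Q} (S : Sec F)

/-- Whether the element with a code is conjugate to `z`. -/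
def chi (n : ℕ) : Prop := ∃ a ∈ F.A, S.code a = n ∧ IsConj z (a : G)

theorem chi_code {a : Subgroup.centralizer ({z} : Set G)} (ha : a ∈ F.A) : S.chi (S.code a) ↔ IsConj z (a : G) :=
  ⟨fun ⟨b, hb, e, hz⟩ => by rwa [← S.code_inj hb ha e], fun h => ⟨a, ha, rfl, h⟩⟩

theorem chi_step {g n : ℕ} (hg : g < 13) (hn : n < 2048) : S.chi (step g n) ↔ S.chi n := by
  obtain ⟨a, ha, rfl⟩ := S.exists_code hn
  rcases Nat.lt_succ_iff_lt_or_eq.1 hg with h | rfl
  · obtain ⟨q, hq⟩ := F.R.vv_surj (dec (2 ^ g))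
    have hv : F.vec q = 2 ^ g := by
      rw [F.vec_eq, hq, Fi24Type47.enc_dec ((Nat.pow_lt_pow_right (by norm_num) h : 2 ^ g < 2 ^ 12))]
    rw [← S.code_translate h q.2 hv ha, S.chi_code (F.norm_Q q.2 ha), S.chi_code ha]
    exact (isConj_coe rfl).symm
  · rw [← S.code_nu ha, S.chi_code (F.norm_nh ha), S.chi_code ha]
    exact (isConj_coe rfl).symm

theorem chi_root {c i : ℕ} (hc : c < 16) (h0 : c ≠ 0) (hi : i < 128) :
    rootT (c + 16 * i) < 3 ∧ (S.chi (c + 16 * i) ↔ S.chi (rootN c (rootT (c + 16 * i)))) := by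
  have key : ∀ d, ∀ i < 128, depT (c + 16 * i) = d →
      rootT (c + 16 * i) < 3 ∧ (S.chi (c + 16 * i) ↔ S.chi (rootN c (rootT (c + 16 * i)))) := by
    intro d
    induction d using Nat.strong_induction_on with
    | _ d ih =>
      intro i hi hd
      have h := List.all_eq_true.1 tree_ok c (List.mem_range.2 hc)
      simp only [Bool.or_eq_true, beq_iff_eq, h0, false_or, List.all_eq_true] at h
      have h := h i (List.mem_range.2 hi)
      simp only [Bool.and_eq_true, decide_eq_true_eq] at h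
      refine ⟨h.1, ?_⟩
      have h2 := h.2
      by_cases hz : depT (c + 16 * i) = 0
      · rw [if_pos hz, beq_iff_eq] at h2
        conv_lhs => rw [h2]
      · rw [if_neg hz] at h2
        simp only [Bool.and_eq_true, decide_eq_true_eq, beq_iff_eq] at h2
        obtain ⟨⟨⟨⟨h3, h4⟩, h5⟩, h6⟩, h7⟩ := h2
        have hp := ih _ (hd ▸ h3) _ h4 rfl
        rw [h6] at hp
        rw [← hp.2, ← h7]
        rw [h7]
        conv_lhs => rw [← h7]
        exact S.chi_step h5 (by omega)
  exact key _ i hi rfl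

open _root_.Classical in
theorem cnt_eq_filter {c : ℕ} (hc : c < 16) :
    F.cnt c = ((List.range 128).filter fun i => decide (S.chi (c + 16 * i))).length := by
  rw [← List.toFinset_card_of_nodup (List.nodup_range.filter _), List.toFinset_filter, Frame.cnt]
  rw [← Set.ncard_coe_finset]
  refine Set.ncard_congr (fun a _ => S.code a / 16) ?_ ?_ ?_
  · rintro a ⟨ha, hca, hz⟩
    obtain ⟨p1, -, -, p4⟩ := S.code_parts ha
    rw [hca] at p1
    simp only [Finset.coe_filter, List.mem_toFinset, List.mem_range, decide_eq_true_eq, Set.mem_setOf_eq]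
    refine ⟨by omega, ?_⟩
    rw [show c + 16 * (S.code a / 16) = S.code a by omega]
    exact (S.chi_code ha).2 hz
  · rintro a b ⟨ha, hca, -⟩ ⟨hb, hcb, -⟩ e
    obtain ⟨p1, -⟩ := S.code_parts ha
    obtain ⟨q1, -⟩ := S.code_parts hb
    rw [hca] at p1
    rw [hcb] at q1
    exact S.code_inj ha hb (by omega)
  · intro i hi
    simp only [Finset.coe_filter, List.mem_toFinset, List.mem_range, decide_eq_true_eq, Set.mem_setOf_eq] at hi
    obtain ⟨a, ha, hn, hz⟩ := hi.2
    obtain ⟨p1, -⟩ := S.code_parts ha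
    exact ⟨a, ⟨ha, by omega, hz⟩, by omega⟩

open _root_.Classical in
theorem cnt_formula {c : ℕ} (hc : c < 16) (h0 : c ≠ 0) :
    F.cnt c = cond (decide (S.chi (rootN c 0))) 16 0 + cond (decide (S.chi (rootN c 1))) 16 0 +
      cond (decide (S.chi (rootN c 2))) 96 0 := by
  rw [S.cnt_eq_filter hc]
  have hcnt := List.all_eq_true.1 root_counts c (List.mem_range.2 hc)
  simp only [Bool.or_eq_true, beq_iff_eq, h0, false_or, List.range_succ, List.range_zero, List.map_append, List.map_cons,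
    List.map_nil, List.nil_append, List.cons_append, List.cons.injEq] at hcnt
  obtain ⟨e0, e1, e2, -⟩ := hcnt
  have h := count_by_root (fun r => decide (S.chi (rootN c r))) (List.range 128) (fun i => rootT (c + 16 * i))
    (fun i hi => (S.chi_root hc h0 (List.mem_range.1 hi)).1)
  simp only [List.range_succ, List.range_zero, List.nil_append, List.cons_append] at h ⊢
  rw [← e0, ← e1, ← e2] at h
  rw [← h]
  congr 1
  refine List.filter_congr fun i hi => ?_
  exact decide_eq_decide.2 (S.chi_root hc h0 (by simp at hi; omega)).2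

end Sec

namespace Sec

variable {F : Frame Q} (S : Sec F)

theorem code_X0 {x : Subgroup.centralizer ({z} : Set G)} (hx : x ∈ F.R.X0) :
    S.code x = 16 * (fixK.idxOf (F.vec x) + 64 * F.sg x) ∧ fixK.idxOf (F.vec x) < 64 ∧
      wX (fixK.idxOf (F.vec x)) = F.vec x := by
  have h := List.all_eq_true.1 fix_idx_ok.1 _ (F.vec_mem_fixK hx)
  simp only [Bool.and_eq_true, decide_eq_true_eq, beq_iff_eq] at h
  have hc := F.cN_of_mem_Q (F.R.X0_le hx)
  refine ⟨?_, h.1, h.2⟩
  rw [code, xp, hc, S.sec_zero, one_mul, cod]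
  ring

open _root_.Classical in
theorem chi_zero {k : ℕ} (hk : ∀ x ∈ F.R.X0, F.vec x ≠ 0 → (IsConj z (x : G) ↔ clN (F.vec x) = k))
    (hk0 : k = 1 ∨ k = 2) {i : ℕ} (hi : i < 128) : S.chi (16 * i) ↔ i = 64 ∨ clN (wX (i % 64)) = k := by
  obtain ⟨a, ha, hn⟩ := S.exists_code (n := 16 * i) (by omega)
  obtain ⟨p1, p2, -, -⟩ := S.code_parts ha
  rw [hn] at p1
  have hax : a ∈ F.R.X0 := by
    rw [← F.A_Q]; exact ⟨ha, F.mem_Q_of_cN ha (by omega)⟩
  obtain ⟨e1, e2, e3⟩ := S.code_X0 hax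
  rw [hn] at e1
  have hs := F.sg_lt a
  have hv : F.vec a = wX (i % 64) := by
    rw [← e3]; congr 1; omega
  rw [← hn, S.chi_code ha]
  by_cases h0 : F.vec a = 0
  · have hcl : clN (wX (i % 64)) = 0 := by rw [← hv, h0]; decide +kernel
    have haq := F.R.X0_le hax
    rw [F.vec_eq ⟨a, haq⟩] at h0
    have hid : fixK.idxOf (F.vec a) = 0 := by
      rw [F.vec_eq ⟨a, haq⟩, h0]; exact fix_idx_ok.2.2.2
    rcases F.R.eq_of_vv_zero haq (Fi24Type47.enc_inj (h0.trans (by decide +kernel))) with r | r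
    · rw [r, F.sg_one] at e1
      rw [r, hcl]
      refine iff_of_false (fun h => F.R.D.good.x_ne ((isConj_one_left.1 (by simpa using h)))) ?_
      rw [r] at hid
      omega
    · rw [r, F.sg_zC] at e1
      rw [r]
      refine iff_of_true (IsConj.refl z) (Or.inl ?_)
      rw [r] at hid
      omega
  · have h64 : i ≠ 64 := fun e => h0 (by rw [hv, e]; decide +kernel)
    rw [hk a hax h0, hv]
    simp [h64]

include S in
open _root_.Classical in
theorem cnt_zero {k : ℕ} (hk : ∀ x ∈ F.R.X0, F.vec x ≠ 0 → (IsConj z (x : G) ↔ clN (F.vec x) = k))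
    (hk0 : k = 1 ∨ k = 2) : F.cnt 0 = cond (decide (k = 1)) 37 91 := by
  rw [S.cnt_eq_filter (by norm_num)]
  have e : (List.range 128).filter (fun i => decide (S.chi (0 + 16 * i))) =
      (List.range 128).filter (fun i => i == 64 || clN (wX (i % 64)) == k) := by
    refine List.filter_congr fun i hi => ?_
    rw [zero_add, Bool.eq_iff_iff, decide_eq_true_eq, Bool.or_eq_true, beq_iff_eq, beq_iff_eq,
      S.chi_zero hk hk0 (List.mem_range.1 hi)]
  rw [e]
  rcases hk0 with rfl | rfl <;> decide +kernel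

include S in
theorem total : {a : G | a ∈ F.Ag ∧ IsConj z a}.ncard = ∑ c ∈ Finset.range 16, F.cnt c := by
  classical
  haveI : Fintype (Subgroup.centralizer ({z} : Set G)) := Fintype.ofFinite _
  set U := (Finset.univ.filter fun a : Subgroup.centralizer ({z} : Set G) => a ∈ F.A ∧ IsConj z (a : G)) with hU
  have h1 : {a : G | a ∈ F.Ag ∧ IsConj z a}.ncard = U.card := by
    rw [← Set.ncard_coe_finset]
    symm
    refine Set.ncard_congr (fun a _ => (a : G)) ?_ (fun a b _ _ e => Subtype.ext e) ?_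
    · intro a ha
      simp only [hU, Finset.coe_filter, Finset.mem_univ, true_and] at ha
      exact ⟨F.coe_mem_Ag.2 ha.1, ha.2⟩
    · rintro b ⟨⟨a, ha, rfl⟩, hz⟩
      exact ⟨a, by simp only [hU, Finset.coe_filter, Finset.mem_univ, true_and]; exact ⟨ha, hz⟩, rfl⟩
  have h2 : U.card = ∑ c ∈ Finset.range 16, (U.filter fun a => F.cN a = c).card :=
    Finset.card_eq_sum_card_fiberwise fun a ha => by
      simp only [hU, Finset.coe_filter, Finset.mem_univ, true_and] at ha
      exact Finset.mem_coe.2 (Finset.mem_range.2 (F.cN_lt ha.1))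
  rw [h1, h2]
  refine Finset.sum_congr rfl fun c _ => ?_
  rw [Frame.cnt, ← Set.ncard_coe_finset]
  congr 1
  ext a
  simp only [hU, Finset.coe_filter, Finset.mem_filter, Finset.mem_univ, true_and]
  exact ⟨fun h => ⟨h.1.1, h.2, h.1.2⟩, fun h => ⟨⟨h.1, h.2.2⟩, h.2.1⟩⟩

/-- The shape of the class of `z`. -/
theorem shape : {a : G | a ∈ F.Ag ∧ IsConj z a}.ncard = 1771 ∧
    (∀ x ∈ F.R.X0, F.vec x ≠ 0 → (IsConj z (x : G) ↔ clN (F.vec x) = 2)) ∧
    ∀ c, c < 16 → c ≠ 0 → S.chi (rootN c 2) ∧ (S.chi (rootN c 1) ↔ ¬ S.chi (rootN c 0)) := by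
  classical
  obtain ⟨k, hk0, hk⟩ := F.exists_class
  have h0 := S.cnt_zero hk hk0
  have hsum : {a : G | a ∈ F.Ag ∧ IsConj z a}.ncard = F.cnt 0 + 15 * F.cnt 1 := by
    rw [S.total, Finset.range_eq_Ico, Finset.sum_eq_sum_Ico_succ_bot (by norm_num : 0 < 16),
      Finset.sum_congr rfl (fun c hc => F.cnt_eq (Finset.mem_Ico.1 hc).2 (by
        have := (Finset.mem_Ico.1 hc).1; omega)), Finset.sum_const, Nat.card_Ico, smul_eq_mul]
  have key : ∀ c, c < 16 → c ≠ 0 → decide (k = 1) = false ∧ S.chi (rootN c 2) ∧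
      (S.chi (rootN c 1) ↔ ¬ S.chi (rootN c 0)) ∧ F.cnt 1 = 112 := by
    intro c hc hc0
    have hf := S.cnt_formula hc hc0
    rw [F.cnt_eq hc hc0] at hf
    have hbad : ∀ p ∈ badPrimes, ¬ p ∣ classSize (decide (k = 1)) (decide (S.chi (rootN c 0)))
        (decide (S.chi (rootN c 1))) (decide (S.chi (rootN c 2))) := by
      intro p hp hd
      refine F.not_dvd_card_M hp (dvd_trans ?_ F.ncard_dvd)
      rw [hsum, h0, hf]
      exact hd
    obtain ⟨a1, a2, a3⟩ := arith_ok _ _ _ _ hbad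
    refine ⟨a1, of_decide_eq_true a2, ?_, ?_⟩
    · rw [← decide_eq_true_eq (p := S.chi (rootN c 1)), a3]
      simp
    · rw [hf, a3, a2]
      cases decide (S.chi (rootN c 0)) <;> rfl
  obtain ⟨k2, -, -, h112⟩ := key 1 (by norm_num) (by norm_num)
  have hk2 : k = 2 := hk0.resolve_left (of_decide_eq_false k2)
  refine ⟨?_, hk2 ▸ hk, fun c hc hc0 => ⟨(key c hc hc0).2.1, (key c hc hc0).2.2.1⟩⟩
  rw [hsum, h0, k2, h112]
  rfl

end Sec

end Cfsg.Agent.Lib.Fi24Thompson95
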