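import Mathlib
import Cfsg.Agent.Lib.Fi24Thompson95.Orbit

/-!
The 276 elements of `A` not conjugate to `z`, in codes for well chosen lifts.
-/

set_option autoImplicit false

namespace Cfsg.Agent.Lib.Fi24Thompson95

open Cfsg.Agent.Lib
open Cfsg.Agent.Lib.Fi24Type47 (Au mat ap enc dec kL fixK nuA nuM mulM getE clN)
open Cfsg.Agent.Lib.Fi24Type47.Rep (zC)

theorem fixK_classes : (fixK.all fun w => if w == 0 then clN w == 0 else clN w == 1 || clN w == 2) = true ∧
    clN 0 = 0 := by decide +kernel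

theorem degree_all : ([0, 543, 1207].all fun b => (List.range 128).all fun i =>
    !(inD (eBits b) (16 * i)) || !(degN (eBits b) (16 * i) == degN (eBits b) (cond (eBits b 1) 1025 1))) = true := by
  decide +kernel

theorem perms_hom : ([perm1, perm2].all fun p => (List.range 16).all fun k => (List.range 16).all fun l =>
    p.getD (k ^^^ l) 16 == p.getD k 16 ^^^ p.getD l 16 && p.getD k 0 == p.getD k 16) = true := by decide +kernel

variable {G : Type*} [Group G] [Finite G] {z : G} {Q : Subgroup (Subgroup.centralizer ({z} : Set G))} [Q.Normal]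

namespace Frame

variable (F : Frame Q)

/-- The elements of `A` not conjugate to `z`, except `1`. -/
def Dg : Set G := {a | a ∈ F.Ag ∧ a ≠ 1 ∧ ¬ IsConj z a}

/-- The number of neighbours. -/
noncomputable def deg (a : G) : ℕ := {y : G | y ∈ F.Dg ∧ y * a ∈ F.Dg}.ncard

omit [Finite G] in
theorem conj_Dg {m a : G} (hm : m ∈ F.M) (ha : a ∈ F.Dg) : m * a * m⁻¹ ∈ F.Dg :=
  ⟨(Subgroup.mem_normalizer_iff.1 hm a).1 ha.1, fun e => ha.2.1 (conj_eq_one_iff.1 e), fun e => ha.2.2
    (e.trans (isConj_iff.2 ⟨m⁻¹, by group⟩))⟩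

omit [Finite G] in
theorem deg_conj {m : G} (hm : m ∈ F.M) (a : G) : F.deg (m * a * m⁻¹) = F.deg a := by
  symm
  refine Set.ncard_congr (fun y _ => m * y * m⁻¹) ?_ (fun y y' _ _ e => by simpa using e) ?_
  · rintro y ⟨h1, h2⟩
    refine ⟨F.conj_Dg hm h1, ?_⟩
    rw [show m * y * m⁻¹ * (m * a * m⁻¹) = m * (y * a) * m⁻¹ by group]
    exact F.conj_Dg hm h2
  · rintro y ⟨h1, h2⟩
    refine ⟨m⁻¹ * y * m, ⟨?_, ?_⟩, by group⟩
    · simpa using F.conj_Dg (inv_mem hm) h1
    · have h := F.conj_Dg (inv_mem hm) h2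
      rwa [inv_inv, show m⁻¹ * (y * (m * a * m⁻¹)) * m = m⁻¹ * y * m * a by group] at h

omit [Finite G] in
theorem mem_M_of_norm [Finite G] {h : Subgroup.centralizer ({z} : Set G)} (hA : ∀ a ∈ F.A, h * a * h⁻¹ ∈ F.A) :
    (h : G) ∈ F.M := by
  have hle : F.Ag.map (MulAut.conj (h : G)).toMonoidHom ≤ F.Ag := by
    rintro _ ⟨_, ⟨a, ha, rfl⟩, rfl⟩
    exact ⟨_, hA a ha, rfl⟩
  have heq := Subgroup.eq_of_le_of_card_ge hle
    (Nat.card_congr (F.Ag.equivMapOfInjective _ (MulAut.conj (h : G)).injective).toEquiv).le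
  refine Subgroup.mem_normalizer_iff.2 fun v => ⟨fun hv => hle ⟨v, hv, rfl⟩, fun hv => ?_⟩
  rw [← heq] at hv
  obtain ⟨u, hu, e⟩ := hv
  rwa [← (MulAut.conj (h : G)).injective e]

theorem deg_conj_H {h a : Subgroup.centralizer ({z} : Set G)} (hA : ∀ a ∈ F.A, h * a * h⁻¹ ∈ F.A) :
    F.deg ((h * a * h⁻¹ : Subgroup.centralizer ({z} : Set G)) : G) = F.deg (a : G) :=
  F.deg_conj (F.mem_M_of_norm hA) _

end Frame

namespace Sec

variable {F : Frame Q} (S : Sec F)

theorem code_sec_z {c : ℕ} (hc : c < 16) : S.code (S.sec c * zC z) = c + 1024 := by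
  rw [S.code_mul (S.sec_mem _) F.zC_mem, S.code_sec hc, S.code_zC]
  revert c
  decide

theorem chi_z {c : ℕ} (hc : c < 16) (h0 : c ≠ 0) : S.chi (c + 1024) ↔ ¬ S.chi c :=
  ((S.shape).2.2 c hc h0).2

/-- Lifts which are not conjugate to `z`. -/
theorem exists_good (S0 : Sec F) : ∃ S : Sec F, ∀ j : Fin 4, ¬ S.chi (2 ^ (j : ℕ)) := by
  classical
  let b : Fin 4 → Subgroup.centralizer ({z} : Set G) := fun j =>
    if IsConj z (S0.b j : G) then S0.b j * zC z else S0.b j
  refine ⟨⟨b, fun j => ?_, fun j => ?_, fun j => ?_⟩, fun j => ?_⟩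
  · simp only [b]; split
    exacts [mul_mem (S0.mem j) F.zC_mem, S0.mem j]
  · simp only [b]; split
    exacts [(Commute.mul_right (S0.fix_nu j) (Fi24Type47.Rep.zC_comm F.nh)).eq, S0.fix_nu j]
  · simp only [b]; split
    · rw [map_mul, (F.R.img_eq_one_iff _).2 F.R.zC_facts.1, mul_one, S0.img j]
    · exact S0.img j
  · set S : Sec F := ⟨b, _, _, _⟩
    have hj : 2 ^ (j : ℕ) < 16 := by
      calc 2 ^ (j : ℕ) < 2 ^ 4 := Nat.pow_lt_pow_right (by norm_num) j.isLt
        _ = 16 := by norm_num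
    have hc : S.code (b j) = 2 ^ (j : ℕ) := by
      rw [show b j = S.sec (2 ^ (j : ℕ)) from (S.sec_basis j).symm, S.code_sec hj]
    rw [← hc, S.chi_code (S.mem j)]
    show ¬ IsConj z ((if IsConj z (S0.b j : G) then S0.b j * zC z else S0.b j : Subgroup.centralizer ({z} : Set G)) : G)
    split
    · rename_i h
      have h' := S0.chi_code (mul_mem (S0.mem j) F.zC_mem)
      rw [← S0.sec_basis j, S0.code_sec_z hj, S0.chi_z hj (by positivity)] at h'
      rw [← S0.sec_basis j, ← h']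
      rw [← S0.sec_basis j, ← S0.chi_code (S0.sec_mem _), S0.code_sec hj] at h
      exact fun hn => hn h
    · assumption

open _root_.Classical in
/-- The lifts chosen by conjugacy. -/
noncomputable def eS (c : ℕ) : Bool := decide (S.chi c)

theorem eS_zero : S.eS 0 = false := by
  classical
  refine decide_eq_false fun ⟨a, ha, h0, hz⟩ => ?_
  rw [S.code_eq_zero ha h0] at hz
  exact F.R.D.good.x_ne (isConj_one_left.1 (by simpa using hz))

theorem inD_code {a : Subgroup.centralizer ({z} : Set G)} (ha : a ∈ F.A) :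
    inD S.eS (S.code a) = true ↔ (a : G) ∈ F.Dg := by
  classical
  obtain ⟨p1, p2, -, p4⟩ := S.code_parts ha
  have hD : (a : G) ∈ F.Dg ↔ a ≠ 1 ∧ ¬ IsConj z (a : G) :=
    ⟨fun h => ⟨fun e => h.2.1 (by rw [e]; rfl), h.2.2⟩, fun h => ⟨F.coe_mem_Ag.2 ha, fun e => h.1 (Subtype.ext e), h.2⟩⟩
  rw [hD, inD]
  by_cases hc : S.code a % 16 = 0
  · rw [if_pos hc, beq_iff_eq, p2]
    have hx : a ∈ F.R.X0 := by rw [← F.A_Q]; exact ⟨ha, F.mem_Q_of_cN ha (by omega)⟩
    have hxp : S.xp a = a := by rw [xp, ← p1, hc, S.sec_zero, one_mul]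
    rw [hxp]
    have hcls := List.all_eq_true.1 fixK_classes.1 _ (F.vec_mem_fixK hx)
    by_cases h0 : F.vec a = 0
    · rw [h0, fixK_classes.2]
      refine iff_of_false (by norm_num) fun ⟨h1, h2⟩ => ?_
      have haq := F.R.X0_le hx
      rw [F.vec_eq ⟨a, haq⟩] at h0
      rcases F.R.eq_of_vv_zero haq (Fi24Type47.enc_inj (h0.trans (by decide +kernel))) with r | r
      · exact h1 r
      · exact h2 (r ▸ IsConj.refl z)
    · rw [if_neg (by simpa using h0), Bool.or_eq_true, beq_iff_eq, beq_iff_eq] at hcls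
      rw [(S.shape).2.1 a hx h0]
      constructor
      · exact fun h => ⟨fun e => h0 (by rw [e]; exact F.vec_one), by omega⟩
      · rintro ⟨-, h⟩; omega
  · rw [if_neg hc, beq_iff_eq, p1]
    have hcl := F.cN_lt ha
    have h0 : F.cN a ≠ 0 := by omega
    have hi : S.code a / 16 < 128 := by omega
    obtain ⟨hr, hchi⟩ := S.chi_root hcl h0 hi
    rw [show F.cN a + 16 * (S.code a / 16) = S.code a by omega] at hr hchi
    rw [S.chi_code ha] at hchi
    obtain ⟨h2, -⟩ := (S.shape).2.2 _ hcl h0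
    have hz := S.chi_z hcl h0
    have hne : a ≠ 1 := fun e => h0 (by rw [e]; exact F.cN_of_mem_Q Q.one_mem)
    rw [hchi]
    rcases (by omega : rootT (S.code a) = 0 ∨ rootT (S.code a) = 1 ∨ rootT (S.code a) = 2) with e | e | e <;> rw [e]
    · change 0 = cond (decide (S.chi _)) 1 0 ↔ a ≠ 1 ∧ ¬ S.chi (F.cN a)
      by_cases h : S.chi (F.cN a) <;> simp [h, hne]
    · change 1 = cond (decide (S.chi _)) 1 0 ↔ a ≠ 1 ∧ ¬ S.chi (F.cN a + 1024)
      rw [hz]
      by_cases h : S.chi (F.cN a) <;> simp [h, hne]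
    · refine iff_of_false ?_ (fun h => h.2 h2)
      cases S.eS (F.cN a) <;> simp

/-- The lift not conjugate to `z`. -/
noncomputable def dEl (c : ℕ) : Subgroup.centralizer ({z} : Set G) := S.sec c * cond (S.eS c) (zC z) 1

omit [Finite G] in
theorem dEl_mem (c : ℕ) : S.dEl c ∈ F.A := by
  refine mul_mem (S.sec_mem c) ?_
  cases S.eS c
  exacts [one_mem _, F.zC_mem]

theorem code_dEl {c : ℕ} (hc : c < 16) : S.code (S.dEl c) = cond (S.eS c) (c + 1024) c := by
  rw [dEl]
  cases S.eS c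
  · simp only [cond_false, mul_one]; exact S.code_sec hc
  · exact S.code_sec_z hc

theorem dEl_spec {c : ℕ} (hc : c < 16) : ((S.dEl c : G) ∈ F.Dg ∨ c = 0) ∧ ∀ a ∈ F.A, F.cN a = c → c ≠ 0 →
    F.nh * a = a * F.nh → (a : G) ∈ F.Dg → a = S.dEl c := by
  classical
  have hex : c ≠ 0 → (¬ S.chi c ∧ S.eS c = false ∧ S.chi (c + 1024)) ∨
      (S.chi c ∧ S.eS c = true ∧ ¬ S.chi (c + 1024)) := fun h0 => by
    rw [S.chi_z hc h0, eS]
    by_cases h : S.chi c <;> simp [h]
  refine ⟨?_, fun a ha hca h0 hfix haD => ?_⟩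
  · by_cases h0 : c = 0
    · exact Or.inr h0
    refine Or.inl ⟨F.coe_mem_Ag.2 (S.dEl_mem c), fun e => h0 ?_, fun e => ?_⟩
    · have h := S.code_dEl hc
      rw [show S.dEl c = 1 from Subtype.ext e, S.code_one] at h
      cases hh : S.eS c <;> rw [hh] at h <;> simp at h <;> omega
    · rw [← S.chi_code (S.dEl_mem c), S.code_dEl hc] at e
      rcases hex h0 with ⟨h1, h2, h3⟩ | ⟨h1, h2, h3⟩ <;> rw [h2] at e
      exacts [h1 e, h3 e]
  · have hx := S.xp_mem ha
    have hxf : F.nh * S.xp a = S.xp a * F.nh := by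
      rw [xp]; exact (Commute.mul_right (S.sec_fix _) hfix).eq
    have e := S.eq_sec_xp (a := a)
    rw [hca] at e
    rcases Fi24Type47.Rep.fixed_Q (R := F.R) F.nh3 F.img_nh (F.R.X0_le hx) hxf with r | r <;> rw [r] at e
    · rcases hex h0 with ⟨h1, h2, h3⟩ | ⟨h1, h2, h3⟩
      · rw [e, dEl, h2]; rfl
      · exfalso
        refine haD.2.2 ?_
        rw [e, mul_one, ← S.chi_code (S.sec_mem c), S.code_sec hc]
        exact h1
    · rcases hex h0 with ⟨h1, h2, h3⟩ | ⟨h1, h2, h3⟩
      · exfalso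
        refine haD.2.2 ?_
        rw [e, ← S.chi_code (mul_mem (S.sec_mem c) F.zC_mem), S.code_sec_z hc]
        exact h3
      · rw [e, dEl, h2]; rfl

theorem dEl_fix (c : ℕ) : F.nh * S.dEl c = S.dEl c * F.nh := by
  refine (Commute.mul_right (S.sec_fix c) ?_).eq
  cases S.eS c
  exacts [Commute.one_right _, Fi24Type47.Rep.zC_comm F.nh]

omit [Finite G] in
theorem cN_dEl {c : ℕ} (hc : c < 16) : F.cN (S.dEl c) = c := by
  have h : ∀ t : Bool, F.cN (S.sec c * cond t (zC z) 1) = c := fun t => by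
    cases t
    · exact (S.xp_eq hc (one_mem _)).1
    · exact (S.xp_eq hc F.R.zC_mem_X0).1
  exact h _

/-- The two movers permute the lifts. -/
theorem dEl_perm {w p : List ℕ} (hwp : (w, p) ∈ [(word1, perm1), (word2, perm2)]) :
    ∃ h : Subgroup.centralizer ({z} : Set G), (∀ a ∈ F.A, h * a * h⁻¹ ∈ F.A) ∧
      ∀ c, c < 16 → p.getD c 16 < 16 ∧ (c ≠ 0 → h * S.dEl c * h⁻¹ = S.dEl (p.getD c 16)) := by
  obtain ⟨h, hn, hA, -, hp⟩ := F.exists_mover hwp
  have hw := List.all_eq_true.1 words_act (w, p) hwp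
  simp only [Bool.and_eq_true, List.all_eq_true, decide_eq_true_eq, beq_iff_eq] at hw
  have hz0 : ∀ c < 16, (perm1.getD c 16 = 0 → c = 0) ∧ (perm2.getD c 16 = 0 → c = 0) := by decide +kernel
  refine ⟨h, hA, fun c hc => ⟨(hw.2 c (List.mem_range.2 hc)).1, fun h0 => ?_⟩⟩
  have hpc := (hw.2 c (List.mem_range.2 hc)).1
  have hne : p.getD c 16 ≠ 0 := fun e => h0 (by
    simp only [List.mem_cons, Prod.mk.injEq, List.not_mem_nil, or_false] at hwp
    rcases hwp with ⟨-, rfl⟩ | ⟨-, rfl⟩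
    exacts [(hz0 c hc).1 e, (hz0 c hc).2 e])
  refine (S.dEl_spec hpc).2 _ (hA _ (S.dEl_mem c)) (by rw [hp _ (S.dEl_mem c), S.cN_dEl hc]) hne ?_ ?_
  · exact (Commute.mul_right (Commute.mul_right hn (S.dEl_fix c)) (Commute.inv_right hn)).eq
  · exact F.conj_Dg (F.mem_M_of_norm hA) ((S.dEl_spec hc).1.resolve_right h0)

/-- The defect is invariant. -/
theorem gam_perm {w p : List ℕ} (hwp : (w, p) ∈ [(word1, perm1), (word2, perm2)]) {k l : ℕ} (hk : k < 16) (hl : l < 16)
    (hk0 : k ≠ 0) (hl0 : l ≠ 0) (hkl : k ≠ l) : gam S.eS (p.getD k 16) (p.getD l 16) = gam S.eS k l := by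
  obtain ⟨h, -, hp⟩ := S.dEl_perm hwp
  have hxor : p.getD (k ^^^ l) 16 = p.getD k 16 ^^^ p.getD l 16 := by
    have hall := List.all_eq_true.1 perms_hom
    simp only [List.mem_cons, Prod.mk.injEq, List.not_mem_nil, or_false] at hwp
    have hmem : p ∈ [perm1, perm2] := by
      rcases hwp with ⟨-, rfl⟩ | ⟨-, rfl⟩ <;> simp
    have h' := List.all_eq_true.1 (List.all_eq_true.1 (hall p hmem) k (List.mem_range.2 hk)) l (List.mem_range.2 hl)
    simp only [Bool.and_eq_true, beq_iff_eq] at h'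
    exact h'.1
  have hkl' : k ^^^ l < 16 := Nat.xor_lt_two_pow (n := 4) hk hl
  have hprod : ∀ a b : ℕ, S.dEl a * S.dEl b * S.dEl (a ^^^ b) = cond (gam S.eS a b) (zC z) 1 := by
    intro a b
    have hz := F.R.zC_facts.2.1
    have hsec : S.sec a * S.sec b * S.sec (a ^^^ b) = 1 := by
      rw [← S.sec_xor, F.A_sq _ (S.sec_mem _)]
    have hc : ∀ (t : Bool) (u : Subgroup.centralizer ({z} : Set G)), Commute (cond t (zC z) 1) u := fun t u => by
      cases t
      exacts [Commute.one_left _, (Fi24Type47.Rep.zC_comm u).symm]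
    have hcond : ∀ s t : Bool, cond s (zC z) 1 * cond t (zC z) 1 = cond (xor s t) (zC z) 1 := fun s t => by
      cases s <;> cases t <;> simp [hz]
    simp only [dEl, gam, ← hcond]
    set i := cond (S.eS a) (zC z) 1
    set j := cond (S.eS b) (zC z) 1
    set m := cond (S.eS (a ^^^ b)) (zC z) 1
    calc S.sec a * i * (S.sec b * j) * (S.sec (a ^^^ b) * m) = S.sec a * (i * S.sec b) * (j * S.sec (a ^^^ b)) * m := by
          simp only [mul_assoc]
      _ = S.sec a * S.sec b * (i * S.sec (a ^^^ b)) * (j * m) := by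
          rw [show i * S.sec b = S.sec b * i from (hc _ _).eq,
            show j * S.sec (a ^^^ b) = S.sec (a ^^^ b) * j from (hc _ _).eq]
          simp only [mul_assoc]
      _ = S.sec a * S.sec b * S.sec (a ^^^ b) * (i * j * m) := by
          rw [show i * S.sec (a ^^^ b) = S.sec (a ^^^ b) * i from (hc _ _).eq]; simp only [mul_assoc]
      _ = _ := by rw [hsec, one_mul]
  have e : h * (S.dEl k * S.dEl l * S.dEl (k ^^^ l)) * h⁻¹ = h * cond (gam S.eS k l) (zC z) 1 * h⁻¹ := by rw [hprod]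
  rw [show h * (S.dEl k * S.dEl l * S.dEl (k ^^^ l)) * h⁻¹ = (h * S.dEl k * h⁻¹) * (h * S.dEl l * h⁻¹) *
      (h * S.dEl (k ^^^ l) * h⁻¹) by group, (hp k hk).2 hk0, (hp l hl).2 hl0,
    (hp _ hkl').2 (fun e => hkl (Nat.xor_eq_zero_iff.1 e)), hxor, hprod] at e
  have hne := F.R.zC_facts.2.2
  cases h1 : gam S.eS k l <;> cases h2 : gam S.eS (p.getD k 16) (p.getD l 16) <;> rw [h1, h2] at e <;>
    simp only [cond_true, cond_false, mul_one, mul_inv_cancel] at e
  all_goals first
    | rfl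
    | exact absurd e hne
    | (rw [Fi24Type47.Rep.zC_comm h, mul_inv_cancel_right] at e; exact absurd e.symm hne)

theorem deg_code {a : Subgroup.centralizer ({z} : Set G)} (ha : a ∈ F.A) :
    F.deg (a : G) = degN S.eS (S.code a) := by
  classical
  rw [degN, ← List.toFinset_card_of_nodup (List.nodup_range.filter _), List.toFinset_filter, ← Set.ncard_coe_finset]
  symm
  refine Set.ncard_congr (fun n hn => ((S.exists_code (n := n) ?_).choose : G)) ?_ ?_ ?_
  · simp only [Finset.coe_filter, List.mem_toFinset, List.mem_range, Bool.and_eq_true] at hn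
    exact hn.1
  · intro n hn
    simp only [Finset.coe_filter, List.mem_toFinset, List.mem_range, Bool.and_eq_true] at hn
    obtain ⟨hy, hc⟩ := (S.exists_code (n := n) hn.1).choose_spec
    set y := (S.exists_code (n := n) hn.1).choose
    refine ⟨(S.inD_code hy).1 (by rw [hc]; exact hn.2.1), ?_⟩
    rw [← Subgroup.coe_mul, ← S.inD_code (mul_mem hy ha), S.code_mul hy ha, hc]
    exact hn.2.2
  · intro n n' hn hn' e
    simp only [Finset.coe_filter, List.mem_toFinset, List.mem_range, Bool.and_eq_true] at hn hn'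
    rw [← (S.exists_code (n := n) hn.1).choose_spec.2, ← (S.exists_code (n := n') hn'.1).choose_spec.2,
      show (S.exists_code (n := n) hn.1).choose = (S.exists_code (n := n') hn'.1).choose from Subtype.ext e]
  · rintro _ ⟨hy, hya⟩
    obtain ⟨y, hyA, rfl⟩ := hy.1
    have hlt := (S.code_parts hyA).2.2.2
    have hmem : S.code y ∈ (↑((List.range 2048).toFinset.filter fun n => (inD S.eS n && inD S.eS (n ^^^ S.code a)) = true) : Set ℕ) := by
      simp only [Finset.coe_filter, List.mem_toFinset, List.mem_range, Bool.and_eq_true]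
      refine ⟨hlt, (S.inD_code hyA).2 hy, ?_⟩
      rw [← S.code_mul hyA ha, S.inD_code (mul_mem hyA ha)]
      exact hya
    refine ⟨S.code y, hmem, ?_⟩
    obtain ⟨h1, h2⟩ := (S.exists_code (n := S.code y) hlt).choose_spec
    exact congrArg Subtype.val (S.code_inj h1 hyA h2)

/-- All lifts in a coset outside `Q` have the degree of the first. -/
theorem deg_outside {a : Subgroup.centralizer ({z} : Set G)} (ha : a ∈ F.A) (hD : (a : G) ∈ F.Dg) (hc : F.cN a ≠ 0) :
    F.deg (a : G) = F.deg (S.dEl 1 : G) := by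
  classical
  obtain ⟨p1, -, -, p4⟩ := S.code_parts ha
  have hcl := F.cN_lt ha
  -- along the orbit tree
  have hroot : ∀ d i, i < 128 → depT (F.cN a + 16 * i) = d → ∀ b ∈ F.A, S.code b = F.cN a + 16 * i →
      ∀ r ∈ F.A, S.code r = rootN (F.cN a) (rootT (F.cN a + 16 * i)) → F.deg (b : G) = F.deg (r : G) := by
    intro d
    induction d using Nat.strong_induction_on with
    | _ d ih =>
      intro i hi hd b hb hbc r hr hrc
      have h := List.all_eq_true.1 tree_ok _ (List.mem_range.2 hcl)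
      simp only [Bool.or_eq_true, beq_iff_eq, hc, false_or, List.all_eq_true] at h
      have h := h i (List.mem_range.2 hi)
      simp only [Bool.and_eq_true, decide_eq_true_eq] at h
      have h2 := h.2
      by_cases hz : depT (F.cN a + 16 * i) = 0
      · rw [if_pos hz, beq_iff_eq] at h2
        rw [S.code_inj hb hr (hbc.trans (h2.trans hrc.symm))]
      · rw [if_neg hz] at h2
        simp only [Bool.and_eq_true, decide_eq_true_eq, beq_iff_eq] at h2
        obtain ⟨⟨⟨⟨h3, h4⟩, h5⟩, h6⟩, h7⟩ := h2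
        obtain ⟨u, hu, huc⟩ := S.exists_code (n := F.cN a + 16 * (treeT (F.cN a + 16 * i) % 128)) (by omega)
        rw [← ih _ (hd ▸ h3) _ h4 rfl u hu huc r hr (by rw [hrc, h6])]
        rcases Nat.lt_succ_iff_lt_or_eq.1 h5 with hg | hg
        · obtain ⟨q, hq⟩ := F.R.vv_surj (dec (2 ^ (treeT (F.cN a + 16 * i) / 128 % 16)))
          have hv : F.vec q = 2 ^ (treeT (F.cN a + 16 * i) / 128 % 16) := by
            rw [F.vec_eq, hq, Fi24Type47.enc_dec (Nat.pow_lt_pow_right (by norm_num) hg : _ < 2 ^ 12)]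
          rw [S.code_inj hb (F.norm_Q q.2 hu) (by rw [S.code_translate hg q.2 hv hu, huc, h7, hbc])]
          exact F.deg_conj_H (fun x hx => F.norm_Q q.2 hx)
        · rw [S.code_inj hb (F.norm_nh hu) (by rw [S.code_nu hu, huc, ← hg, h7, hbc])]
          exact F.deg_conj_H (fun x hx => F.norm_nh hx)
  have h1 : F.deg (a : G) = F.deg (S.dEl (F.cN a) : G) := by
    refine hroot _ (S.code a / 16) (by omega) rfl a ha (by omega) _ (S.dEl_mem _) ?_
    have hin := (S.inD_code ha).2 hD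
    rw [inD, if_neg (by omega), beq_iff_eq, p1] at hin
    rw [show F.cN a + 16 * (S.code a / 16) = S.code a by omega, hin, S.code_dEl hcl]
    cases S.eS (F.cN a) <;> rfl
  rw [h1]
  set P : ℕ → Prop := fun k => (k < 16 ∧ k ≠ 0) ∧ F.deg (S.dEl k : G) = F.deg (S.dEl 1 : G) with hP
  obtain ⟨u1, hu1A, hu1⟩ := S.dEl_perm (w := word1) (p := perm1) (by simp)
  obtain ⟨u2, hu2A, hu2⟩ := S.dEl_perm (w := word2) (p := perm2) (by simp)
  have hz0 : ∀ c < 16, c ≠ 0 → perm1.getD c 0 = perm1.getD c 16 ∧ perm1.getD c 16 ≠ 0 ∧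
      perm2.getD c 0 = perm2.getD c 16 ∧ perm2.getD c 16 ≠ 0 := by decide +kernel
  have key : ∀ (L : List ℕ) (s : List ℕ), (∀ k ∈ s, P k) →
      ∀ k ∈ L.foldl (fun s _ => (s ++ s.map (fun k => perm1.getD k 0) ++ s.map fun k => perm2.getD k 0).dedup) s,
        P k := by
    intro L
    induction L with
    | nil => exact fun s hs k hk => hs k hk
    | cons i L ih =>
      intro s hs
      refine ih _ fun k hk => ?_
      rw [List.mem_dedup, List.mem_append, List.mem_append] at hk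
      rcases hk with (hk | hk) | hk
      · exact hs k hk
      · obtain ⟨j, hj, rfl⟩ := List.mem_map.1 hk
        obtain ⟨⟨hj16, hj0⟩, hjd⟩ := hs j hj
        obtain ⟨e1, e2, -, -⟩ := hz0 j hj16 hj0
        obtain ⟨hlt, he⟩ := hu1 j hj16
        refine ⟨⟨e1 ▸ hlt, e1 ▸ e2⟩, ?_⟩
        rw [e1, ← he hj0, F.deg_conj_H hu1A, hjd]
      · obtain ⟨j, hj, rfl⟩ := List.mem_map.1 hk
        obtain ⟨⟨hj16, hj0⟩, hjd⟩ := hs j hj
        obtain ⟨-, -, e1, e2⟩ := hz0 j hj16 hj0
        obtain ⟨hlt, he⟩ := hu2 j hj16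
        refine ⟨⟨e1 ▸ hlt, e1 ▸ e2⟩, ?_⟩
        rw [e1, ← he hj0, F.deg_conj_H hu2A, hjd]
  have hmem := List.all_eq_true.1 perms_transitive (F.cN a - 1) (List.mem_range.2 (by omega))
  rw [show F.cN a - 1 + 1 = F.cN a by omega] at hmem
  exact (key _ [1] (fun k hk => by rw [List.mem_singleton.1 hk]; exact ⟨⟨by norm_num, by norm_num⟩, rfl⟩) _
    (List.contains_iff_mem.1 hmem)).2

include S in
/-- Some duad in `Q` moves outside. -/
theorem exists_exit : ∃ x ∈ F.A, F.cN x = 0 ∧ (x : G) ∈ F.Dg ∧ ∃ y ∈ F.A, F.cN y ≠ 0 ∧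
    ∃ m ∈ F.M, m * (x : G) * m⁻¹ = (y : G) := by
  classical
  by_contra hcon
  push Not at hcon
  -- a duad and its product with `z`
  obtain ⟨x, hx, hxc⟩ := S.exists_code (n := baseDuad) degree_ok.2.2.2
  obtain ⟨p1, p2, -, -⟩ := S.code_parts hx
  have hx0 : F.cN x = 0 := by rw [← p1, hxc]; exact degree_ok.2.2.1
  have hxD : (x : G) ∈ F.Dg := by
    rw [← S.inD_code hx, hxc]
    have h := degree_ok.2.1
    rw [inD, if_pos degree_ok.2.2.1] at h ⊢
    exact h
  have hxz : (x * zC z) ∈ F.A := mul_mem hx F.zC_mem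
  have hxzc : F.cN (x * zC z) = 0 := by
    rw [F.cN_mul hx F.zC_mem, hx0, F.cN_of_mem_Q F.R.zC_facts.1]; rfl
  have hxzD : ((x * zC z : Subgroup.centralizer ({z} : Set G)) : G) ∈ F.Dg := by
    rw [← S.inD_code hxz, S.code_mul hx F.zC_mem, S.code_zC, hxc, inD]
    have h := degree_ok.2.1
    rw [inD, if_pos degree_ok.2.2.1] at h
    rw [show (baseDuad ^^^ 1024) % 16 = 0 by decide +kernel, if_pos rfl,
      show (baseDuad ^^^ 1024) / 16 % 64 = baseDuad / 16 % 64 by decide +kernel]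
    exact h
  -- a conjugate of `z` outside `Q`
  obtain ⟨a, ha, hac⟩ := S.exists_code (n := rootN 1 2) (by decide +kernel)
  have hconj : IsConj z (a : G) := by
    rw [← S.chi_code ha, hac]
    exact ((S.shape).2.2 1 (by norm_num) (by norm_num)).1
  obtain ⟨g, hg⟩ := isConj_iff.1 hconj
  obtain ⟨m, hm, he⟩ := F.fusion F.z_mem_Ag (g := g) (by rw [hg]; exact F.coe_mem_Ag.2 ha)
  rw [hg] at he
  obtain ⟨u, hu, hue⟩ := (Subgroup.mem_normalizer_iff.1 hm (x : G)).1 (F.coe_mem_Ag.2 hx)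
  obtain ⟨v, hv, hve⟩ := (Subgroup.mem_normalizer_iff.1 hm ((x * zC z : Subgroup.centralizer ({z} : Set G)) : G)).1
    (F.coe_mem_Ag.2 hxz)
  have hu0 : F.cN u = 0 := by_contra fun h => hcon x hx hx0 hxD u hu h m hm hue.symm
  have hv0 : F.cN v = 0 := by_contra fun h => hcon _ hxz hxzc hxzD v hv h m hm hve.symm
  have huv : u * v = a := Subtype.ext (by
    show (u : G) * v = a
    rw [show (u : G) = m * x * m⁻¹ from hue, show (v : G) = m * ((x * zC z : Subgroup.centralizer ({z} : Set G)) : G) *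
      m⁻¹ from hve, Subgroup.coe_mul, show ((zC z : Subgroup.centralizer ({z} : Set G)) : G) = z from rfl, ← he]
    calc m * (x : G) * m⁻¹ * (m * ((x : G) * z) * m⁻¹) = m * ((x : G) * x * z) * m⁻¹ := by group
      _ = _ := by rw [show (x : G) * x = 1 from congrArg Subtype.val (F.A_sq x hx), one_mul])
  have := (S.code_parts ha).1
  rw [hac, ← huv, F.cN_mul hu hv, hu0, hv0] at this
  exact absurd this (by decide +kernel)

theorem eS_eq (hgood : ∀ j : Fin 4, ¬ S.chi (2 ^ (j : ℕ))) : ∀ c < 16, S.eS c = eT c := by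
  classical
  set b := Nat.ofBits (fun i : Fin 11 => S.eS ([3, 5, 6, 7, 9, 10, 11, 12, 13, 14, 15].getD i.val 0)) with hb
  have hbe : ∀ c < 16, S.eS c = eBits b c := by
    intro c hc
    have hz := S.eS_zero
    have h1 : S.eS 1 = false := decide_eq_false (hgood 0)
    have h2 : S.eS 2 = false := decide_eq_false (hgood 1)
    have h4 : S.eS 4 = false := decide_eq_false (hgood 2)
    have h8 : S.eS 8 = false := decide_eq_false (hgood 3)
    have ht : ∀ i : ℕ, i < 11 → b.testBit i = S.eS ([3, 5, 6, 7, 9, 10, 11, 12, 13, 14, 15].getD i 0) := fun i hi =>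
      Nat.testBit_ofBits_lt _ i hi
    interval_cases c <;> simp [eBits, hz, h1, h2, h4, h8, ht]
  have hblt : b < 2048 := Nat.ofBits_lt_two_pow _
  have hinv := List.all_eq_true.1 invariant_ok b (List.mem_range.2 hblt)
  have hgam : ([perm1, perm2].all fun g => [1, 2, 4, 8].all fun k =>
      (List.range 15).all fun i => k == i + 1 ||
        gam (eBits b) (g.getD k 0) (g.getD (i + 1) 0) == gam (eBits b) k (i + 1)) = true := by
    have hall : ∀ (w p : List ℕ), (w, p) ∈ [(word1, perm1), (word2, perm2)] → ∀ k < 16, k ≠ 0 → ∀ l < 16, l ≠ 0 →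
        k ≠ l → p.getD k 0 = p.getD k 16 → p.getD l 0 = p.getD l 16 →
        gam (eBits b) (p.getD k 0) (p.getD l 0) = gam (eBits b) k l := by
      intro w p hwp k hk hk0 l hl hl0 hkl e1 e2
      have h := S.gam_perm hwp hk hl hk0 hl0 hkl
      obtain ⟨u, -, hu⟩ := S.dEl_perm hwp
      have l1 := (hu k hk).1
      have l2 := (hu l hl).1
      simp only [gam] at h ⊢
      rw [e1, e2]
      rwa [hbe _ l1, hbe _ l2, hbe _ (Nat.xor_lt_two_pow (n := 4) l1 l2), hbe _ hk, hbe _ hl,
        hbe _ (Nat.xor_lt_two_pow (n := 4) hk hl)] at h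
    have hget : ∀ k < 16, perm1.getD k 0 = perm1.getD k 16 ∧ perm2.getD k 0 = perm2.getD k 16 := by decide +kernel
    simp only [List.all_eq_true, Bool.or_eq_true, beq_iff_eq, List.mem_range]
    intro g hg k hk i hi
    by_cases hki : k = i + 1
    · exact Or.inl hki
    refine Or.inr ?_
    have hk16 : k < 16 ∧ k ≠ 0 := by
      simp only [List.mem_cons, List.not_mem_nil, or_false] at hk; omega
    simp only [List.mem_cons, List.not_mem_nil, or_false] at hg
    rcases hg with rfl | rfl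
    · exact hall word1 perm1 (by simp) k hk16.1 hk16.2 (i + 1) (by omega) (by omega) hki (hget k hk16.1).1
        (hget _ (by omega)).1
    · exact hall word2 perm2 (by simp) k hk16.1 hk16.2 (i + 1) (by omega) (by omega) hki (hget k hk16.1).2
        (hget _ (by omega)).2
  rw [hgam, Bool.not_true, Bool.or_false] at hinv
  have hmem := List.contains_iff_mem.1 hinv
  have hin : ∀ n, inD S.eS n = inD (eBits b) n := fun n => by
    simp only [inD]
    split
    · rfl
    · rw [hbe _ (Nat.mod_lt _ (by norm_num))]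
  have hdeg : ∀ n, degN S.eS n = degN (eBits b) n := fun n => by simp only [degN, hin]
  have hb4 : b = 1704 := by
    obtain ⟨x, hx, hx0, hxD, y, hy, hy0, m, hm, he⟩ := S.exists_exit
    have h1 : F.deg (x : G) = F.deg (y : G) := by rw [← he, F.deg_conj hm]
    have hyD : (y : G) ∈ F.Dg := he ▸ F.conj_Dg hm hxD
    rw [S.deg_outside hy hyD hy0, S.deg_code hx, S.deg_code (S.dEl_mem 1), S.code_dEl (by norm_num), hdeg, hdeg,
      hbe 1 (by norm_num)] at h1
    obtain ⟨p1, -, -, p4⟩ := S.code_parts hx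
    have hin' := (S.inD_code hx).2 hxD
    rw [hin] at hin'
    simp only [List.mem_cons, List.not_mem_nil, or_false] at hmem
    by_contra h4
    have hdd := List.all_eq_true.1 degree_all b (by simp only [List.mem_cons, List.not_mem_nil, or_false]; omega)
    have h := List.all_eq_true.1 hdd (S.code x / 16) (List.mem_range.2 (by omega))
    rw [show 16 * (S.code x / 16) = S.code x by omega, hin', h1] at h
    simp at h
  intro c hc
  rw [hbe c hc, hb4, eT]

/-- The elements not conjugate to `z` in codes. -/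
theorem inD_eT (hgood : ∀ j : Fin 4, ¬ S.chi (2 ^ (j : ℕ))) {a : Subgroup.centralizer ({z} : Set G)} (ha : a ∈ F.A) :
    inD eT (S.code a) = true ↔ (a : G) ∈ F.Dg := by
  rw [← S.inD_code ha]
  simp only [inD]
  split
  · rfl
  · rw [S.eS_eq hgood _ (Nat.mod_lt _ (by norm_num))]

end Sec

end Cfsg.Agent.Lib.Fi24Thompson95
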