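import Mathlib
import Cfsg.Agent.Lib.Golay.Perm
import Cfsg.Agent.Lib.Fi24Thompson95.Check

/-!
A linear map of the codes preserving the duads comes from a permutation of the 24 points in `M24`.
-/

set_option autoImplicit false

namespace Cfsg.Agent.Lib.Fi24Thompson95

open Cfsg Cfsg.Agent.Lib
open Cfsg.Agent.Lib.Golay (idx pt ptsOf maskOf IsCodeSet combine)
open scoped symmDiff Pointwise

theorem psi_eq_combine : ((List.range 2048).all fun n => psi n == combine psiL n) = true := by decide +kernel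

theorem psi_xor {a b : ℕ} (ha : a < 2048) (hb : b < 2048) : psi (a ^^^ b) = psi a ^^^ psi b := by
  have h : ∀ n < 2048, psi n = combine psiL n := fun n hn =>
    eq_of_beq (List.all_eq_true.1 psi_eq_combine n (List.mem_range.2 hn))
  rw [h a ha, h b hb, h _ (Nat.xor_lt_two_pow (n := 11) ha hb), Golay.combine_xor]

theorem psi_inj {a b : ℕ} (ha : a < 2048) (hb : b < 2048) (h : psi a = psi b) : a = b := by
  refine Nat.xor_eq_zero_iff.1 (by_contra fun hne => ?_)
  have hlt : a ^^^ b < 2048 := Nat.xor_lt_two_pow (n := 11) ha hb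
  have h' := List.all_eq_true.1 psi_ker ((a ^^^ b) - 1) (List.mem_range.2 (by omega))
  rw [show (a ^^^ b) - 1 + 1 = a ^^^ b by omega, psi_xor ha hb, h, Nat.xor_self] at h'
  simp at h'

theorem syn_xor (a b : ℕ) : syn (a ^^^ b) = syn a ^^^ syn b := by
  have hd : ∀ x y : ℕ, (x ^^^ y) / 4096 = x / 4096 ^^^ y / 4096 := fun x y => by
    simpa [Nat.shiftRight_eq_div_pow] using Nat.shiftRight_xor_distrib (a := x) (b := y) (i := 12)
  have hm : (a ^^^ b) % 4096 = a % 4096 ^^^ b % 4096 := by
    simpa using Nat.xor_mod_two_pow (a := a) (b := b) (n := 12)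
  rw [syn, syn, syn, hm, Golay.encode_xor, hd, hd]
  ac_rfl

theorem syn_eq_zero {m : ℕ} (hm : m < 2 ^ 24) : syn m = 0 ↔ IsCodeSet (ptsOf m) := by
  rw [Golay.isCodeSet_ptsOf_iff hm, Golay.isCodeMask, beq_iff_eq, syn, Nat.xor_eq_zero_iff]
  constructor
  · intro h
    have h1 := Golay.encode_mod _ (Nat.mod_lt m (by norm_num : 0 < 4096))
    omega
  · intro h
    rw [h]

/-- The syndrome of a set of points. -/
noncomputable def sy (s : Finset GolayPt) : ℕ := syn (maskOf s)

theorem sy_symmDiff (s t : Finset GolayPt) : sy (s ∆ t) = sy s ^^^ sy t := by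
  rw [sy, sy, sy, ← syn_xor]
  congr 1
  refine Golay.ptsOf_injective (Golay.maskOf_lt _)
    (Nat.xor_lt_two_pow (n := 24) (Golay.maskOf_lt _) (Golay.maskOf_lt _)) ?_
  rw [Golay.ptsOf_xor, Golay.ptsOf_maskOf, Golay.ptsOf_maskOf, Golay.ptsOf_maskOf]

theorem sy_eq_zero (s : Finset GolayPt) : sy s = 0 ↔ IsCodeSet s := by
  rw [sy, syn_eq_zero (Golay.maskOf_lt _), Golay.ptsOf_maskOf]

theorem sy_empty : sy ∅ = 0 := (sy_eq_zero _).2 Golay.isCodeSet_empty

theorem eq_of_sy {s t : Finset GolayPt} (h : sy s = sy t) (hc : s.card + t.card < 8) : s = t := by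
  have h0 : IsCodeSet (s ∆ t) := (sy_eq_zero _).1 (by rw [sy_symmDiff, h, Nat.xor_self])
  have h1 := Golay.card_symmDiff_add s t
  have he := Golay.eq_empty_of_card_lt h0 (by omega)
  exact symmDiff_eq_bot.1 he

/-- The code of a duad of points. -/
def dN (p q : GolayPt) : ℕ := duadN (idx p).val (idx q).val

theorem mask_pair : ∀ p q : GolayPt, p ≠ q → maskOf {p, q} = 2 ^ (idx p).val ^^^ 2 ^ (idx q).val := by decide +kernel

theorem dN_facts (p q : GolayPt) : dN p q < 2048 ∧ (p = q → dN p q = 0) ∧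
    (p ≠ q → inD eT (dN p q) = true ∧ psi (dN p q) = sy {p, q}) := by
  have ha := (idx p).isLt
  have hb := (idx q).isLt
  by_cases hpq : p = q
  · subst hpq
    have h := eq_of_beq (List.all_eq_true.1 duad_all.2.2 _ (List.mem_range.2 ha))
    exact ⟨by rw [dN, h]; norm_num, fun _ => h, fun hne => absurd rfl hne⟩
  · have hne : (idx p).val ≠ (idx q).val := fun e => hpq (by
      rw [← Golay.pt_idx p, ← Golay.pt_idx q, Fin.ext e])
    have h := List.all_eq_true.1 (List.all_eq_true.1 duad_ok _ (List.mem_range.2 ha)) _ (List.mem_range.2 hb)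
    simp only [Bool.or_eq_true, beq_iff_eq, hne, false_or, Bool.and_eq_true, decide_eq_true_eq] at h
    exact ⟨h.1.1, fun e => absurd e hpq, fun _ => ⟨h.1.2, by rw [sy, mask_pair p q hpq]; exact h.2⟩⟩

theorem dN_symm (p q : GolayPt) : dN p q = dN q p := by
  by_cases h : p = q
  · rw [h]
  refine psi_inj (dN_facts p q).1 (dN_facts q p).1 ?_
  rw [((dN_facts p q).2.2 h).2, ((dN_facts q p).2.2 (Ne.symm h)).2, Finset.pair_comm]

theorem dN_add (p q r : GolayPt) (hpq : p ≠ q) (hpr : p ≠ r) (hqr : q ≠ r) : dN p q ^^^ dN p r = dN q r := by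
  refine psi_inj (Nat.xor_lt_two_pow (n := 11) (dN_facts p q).1 (dN_facts p r).1) (dN_facts q r).1 ?_
  rw [psi_xor (dN_facts p q).1 (dN_facts p r).1, ((dN_facts p q).2.2 hpq).2, ((dN_facts p r).2.2 hpr).2,
    ((dN_facts q r).2.2 hqr).2, ← sy_symmDiff]
  congr 1
  ext x
  simp only [Finset.mem_symmDiff, Finset.mem_insert, Finset.mem_singleton]
  grind

theorem exists_dN {n : ℕ} (hn : n < 2048) (h : inD eT n = true) : ∃ p q : GolayPt, p ≠ q ∧ n = dN p q := by
  have h1 := List.all_eq_true.1 duad_all.1 n (List.mem_range.2 hn)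
  rw [h, Bool.not_true, Bool.false_or, List.any_eq_true] at h1
  obtain ⟨a, ha, h2⟩ := h1
  obtain ⟨b, hb, hbe⟩ := List.getElem_of_mem (List.contains_iff_mem.1 h2)
  have hlen : (duadL.getD a []).length = 24 := by
    have h3 : ∀ a < 24, (duadL.getD a []).length = 24 := by decide +kernel
    exact h3 a (List.mem_range.1 ha)
  have hne : a ≠ b := fun e => by
    have h4 := eq_of_beq (List.all_eq_true.1 duad_all.2.2 a ha)
    have h5 : inD eT 0 = false := by decide +kernel
    subst e
    rw [show n = duadN a a by rw [duadN, List.getD_eq_getElem _ _ hb]; exact hbe.symm, h4, h5] at h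
    exact absurd h (by decide)
  refine ⟨pt ⟨a, List.mem_range.1 ha⟩, pt ⟨b, hlen ▸ hb⟩, fun e => hne ?_, ?_⟩
  · have := congrArg idx e
    rw [Golay.idx_pt, Golay.idx_pt, Fin.ext_iff] at this
    exact this
  · rw [dN, Golay.idx_pt, Golay.idx_pt, duadN, List.getD_eq_getElem _ _ hb]
    exact hbe.symm

theorem exists_third : ∀ p q : GolayPt, ∃ r, r ≠ p ∧ r ≠ q := by decide +kernel

/-- Pairwise meeting pairs, more than three of them, have a common point. -/
theorem exists_common (S : Finset (Finset GolayPt)) (h2 : ∀ s ∈ S, s.card = 2)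
    (hm : ∀ s ∈ S, ∀ t ∈ S, s ≠ t → (s ∩ t).Nonempty) (hc : 3 < S.card) : ∃ x, ∀ s ∈ S, x ∈ s := by
  obtain ⟨s1, hs1, s2, hs2, hne⟩ := Finset.one_lt_card.1 (by omega : 1 < S.card)
  obtain ⟨x, hx⟩ := hm s1 hs1 s2 hs2 hne
  rw [Finset.mem_inter] at hx
  refine ⟨x, fun s3 hs3 => by_contra fun hx3 => ?_⟩
  obtain ⟨a, ha⟩ := hm s1 hs1 s3 hs3 (fun e => hx3 (e ▸ hx.1))
  obtain ⟨b, hb⟩ := hm s2 hs2 s3 hs3 (fun e => hx3 (e ▸ hx.2))
  rw [Finset.mem_inter] at ha hb
  have pair : ∀ s ∈ S, ∀ u v, u ∈ s → v ∈ s → u ≠ v → s = {u, v} := fun s hs u v hu hv huv =>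
    (Finset.eq_of_subset_of_card_le (Finset.insert_subset hu (Finset.singleton_subset_iff.2 hv))
      (by rw [h2 s hs, Finset.card_pair huv])).symm
  have e1 := pair s1 hs1 x a hx.1 ha.1 (fun e => hx3 (e ▸ ha.2))
  have e2 := pair s2 hs2 x b hx.2 hb.1 (fun e => hx3 (e ▸ hb.2))
  have hab : a ≠ b := fun e => hne (by rw [e1, e2, e])
  have e3 := pair s3 hs3 a b ha.2 hb.2 hab
  have hsub : S ⊆ {s1, s2, s3} := by
    intro s hs
    simp only [Finset.mem_insert, Finset.mem_singleton]
    by_contra hcon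
    push Not at hcon
    obtain ⟨u, hu⟩ := hm s hs s1 hs1 hcon.1
    obtain ⟨v, hv⟩ := hm s hs s2 hs2 hcon.2.1
    obtain ⟨w, hw⟩ := hm s hs s3 hs3 hcon.2.2
    rw [Finset.mem_inter] at hu hv hw
    rw [e1, Finset.mem_insert, Finset.mem_singleton] at hu
    rw [e2, Finset.mem_insert, Finset.mem_singleton] at hv
    rw [e3, Finset.mem_insert, Finset.mem_singleton] at hw
    have hxs : x ∈ s ∨ (a ∈ s ∧ b ∈ s) := by
      rcases hu.2 with e | e
      · exact Or.inl (e ▸ hu.1)
      rcases hv.2 with e' | e'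
      · exact Or.inl (e' ▸ hv.1)
      exact Or.inr ⟨e ▸ hu.1, e' ▸ hv.1⟩
    rcases hxs with h | ⟨h, h'⟩
    · rcases hw.2 with e | e
      · exact hcon.1 ((pair s hs x a h (e ▸ hw.1) (fun e' => hx3 (e' ▸ ha.2))).trans e1.symm)
      · exact hcon.2.1 ((pair s hs x b h (e ▸ hw.1) (fun e' => hx3 (e' ▸ hb.2))).trans e2.symm)
    · exact hcon.2.2 ((pair s hs a b h h' hab).trans e3.symm)
  have := (Finset.card_le_card hsub).trans Finset.card_le_three
  omega

/-- The permutation of a map of codes preserving sums and duads. -/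
theorem exists_perm (f : ℕ → ℕ) (hlt : ∀ n < 2048, f n < 2048)
    (hadd : ∀ a < 2048, ∀ b < 2048, f (a ^^^ b) = f a ^^^ f b) (hinj : ∀ a < 2048, ∀ b < 2048, f a = f b → a = b)
    (hD : ∀ n < 2048, inD eT n = true → inD eT (f n) = true) :
    ∃ σ ∈ Cfsg.M24, ∀ p q : GolayPt, f (dN p q) = dN (σ p) (σ q) := by
  classical
  have hf0 : f 0 = 0 := by
    have h := hadd 0 (by norm_num) 0 (by norm_num)
    rw [Nat.xor_self, Nat.xor_self] at h
    exact h
  have hex : ∀ p q : GolayPt, p ≠ q → ∃ s : Finset GolayPt, s.card = 2 ∧ psi (f (dN p q)) = sy s := by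
    intro p q hpq
    obtain ⟨r, t, hrt, e⟩ := exists_dN (hlt _ (dN_facts p q).1) (hD _ (dN_facts p q).1 ((dN_facts p q).2.2 hpq).1)
    exact ⟨{r, t}, Finset.card_pair hrt, by rw [e]; exact ((dN_facts r t).2.2 hrt).2⟩
  choose img hcard himg using hex
  have hinjd : ∀ p q r t (h : p ≠ q) (h' : r ≠ t), img p q h = img r t h' → ({p, q} : Finset GolayPt) = {r, t} := by
    intro p q r t h h' e
    have e1 := himg p q h
    rw [e, ← himg r t h'] at e1
    have e2 := hinj _ (dN_facts p q).1 _ (dN_facts r t).1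
      (psi_inj (hlt _ (dN_facts p q).1) (hlt _ (dN_facts r t).1) e1)
    refine eq_of_sy ?_ (by rw [Finset.card_pair h, Finset.card_pair h']; norm_num)
    rw [← ((dN_facts p q).2.2 h).2, ← ((dN_facts r t).2.2 h').2, e2]
  have himg_symm : ∀ p q (h : p ≠ q), img p q h = img q p h.symm := fun p q h =>
    eq_of_sy (by rw [← himg p q h, ← himg q p h.symm, dN_symm]) (by rw [hcard, hcard]; norm_num)
  have hinj1 : ∀ p, Function.Injective fun q : {q : GolayPt // p ≠ q} => img p q.1 q.2 := fun p q r e => by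
    have h1 := hinjd p q.1 p r.1 q.2 r.2 e
    have h2 : q.1 ∈ ({p, r.1} : Finset GolayPt) := h1 ▸ by simp
    simp only [Finset.mem_insert, Finset.mem_singleton] at h2
    exact Subtype.ext (h2.resolve_left (Ne.symm q.2))
  have hstar : ∀ p, ∃ x, ∀ q (h : p ≠ q), x ∈ img p q h := by
    intro p
    let S : Finset (Finset GolayPt) := Finset.univ.image fun q : {q : GolayPt // p ≠ q} => img p q.1 q.2
    obtain ⟨x, hx⟩ := exists_common S (fun s hs => by
        obtain ⟨q, -, rfl⟩ := Finset.mem_image.1 hs; exact hcard _ _ _)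
      (fun s hs t ht hst => by
        obtain ⟨q, -, rfl⟩ := Finset.mem_image.1 hs
        obtain ⟨r, -, rfl⟩ := Finset.mem_image.1 ht
        have hqr : q.1 ≠ r.1 := fun e => hst (by
          obtain rfl := Subtype.ext e
          rfl)
        have hsum : sy (img p q.1 q.2 ∆ img p r.1 r.2) = sy (img q.1 r.1 hqr) := by
          rw [sy_symmDiff, ← himg p q.1 q.2, ← himg p r.1 r.2, ← himg q.1 r.1 hqr,
            ← psi_xor (hlt _ (dN_facts _ _).1) (hlt _ (dN_facts _ _).1), ← hadd _ (dN_facts _ _).1 _ (dN_facts _ _).1,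
            dN_add p q.1 r.1 q.2 r.2 hqr]
        have h1 := Golay.card_symmDiff_add (img p q.1 q.2) (img p r.1 r.2)
        have hc1 := hcard p q.1 q.2
        have hc2 := hcard p r.1 r.2
        have hc3 := hcard q.1 r.1 hqr
        have he := eq_of_sy hsum (by omega)
        rw [he] at h1
        exact Finset.card_pos.1 (by omega))
      (by
        rw [Finset.card_image_of_injective _ (hinj1 p), Finset.card_univ, Fintype.card_subtype_compl,
          Fintype.card_subtype_eq', Golay.card_golayPt]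
        norm_num)
    exact ⟨x, fun q h => hx _ (Finset.mem_image.2 ⟨⟨q, h⟩, Finset.mem_univ _, rfl⟩)⟩
  choose σ0 hσ0 using hstar
  have hne : ∀ p q, p ≠ q → σ0 p ≠ σ0 q := by
    intro p q hpq e
    obtain ⟨r, hr1, hr2⟩ := exists_third p q
    -- all the pairs at `σ0 p` are images of the pairs at `p`
    let T : Finset (Finset GolayPt) := (Finset.univ.filter fun y => σ0 p ≠ y).image fun y => {σ0 p, y}
    let S : Finset (Finset GolayPt) := Finset.univ.image fun u : {u : GolayPt // p ≠ u} => img p u.1 u.2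
    have hST : S ⊆ T := by
      intro s hs
      obtain ⟨u, -, rfl⟩ := Finset.mem_image.1 hs
      obtain ⟨a, b, hab, hsab⟩ := Finset.card_eq_two.1 (hcard p u.1 u.2)
      have hmem := hσ0 p u.1 u.2
      rw [hsab] at hmem ⊢
      simp only [Finset.mem_insert, Finset.mem_singleton] at hmem
      refine Finset.mem_image.2 ?_
      rcases hmem with h | h
      · exact ⟨b, by simp [h, hab], by rw [h]⟩
      · exact ⟨a, by simp [h, Ne.symm hab], by rw [h, Finset.pair_comm]⟩
    have hcT : T.card ≤ 23 := by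
      refine Finset.card_image_le.trans ?_
      rw [← Fintype.card_subtype, Fintype.card_subtype_compl, Fintype.card_subtype_eq', Golay.card_golayPt]
    have hcS : S.card = 23 := by
      rw [Finset.card_image_of_injective _ (hinj1 p), Finset.card_univ, Fintype.card_subtype_compl,
        Fintype.card_subtype_eq', Golay.card_golayPt]
    have hEq := Finset.eq_of_subset_of_card_le hST (by omega)
    obtain ⟨a, b, hab, hsab⟩ := Finset.card_eq_two.1 (hcard q r (Ne.symm hr2))
    have hmem := hσ0 q r (Ne.symm hr2)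
    rw [hsab, ← e] at hmem
    simp only [Finset.mem_insert, Finset.mem_singleton] at hmem
    have hinT : img q r (Ne.symm hr2) ∈ T := by
      rw [hsab]
      refine Finset.mem_image.2 ?_
      rcases hmem with h | h
      · exact ⟨b, by simp [h, hab], by rw [h]⟩
      · exact ⟨a, by simp [h, Ne.symm hab], by rw [h, Finset.pair_comm]⟩
    rw [← hEq] at hinT
    obtain ⟨u, -, hu⟩ := Finset.mem_image.1 hinT
    have hp := hinjd p u.1 q r u.2 (Ne.symm hr2) hu
    have : p ∈ ({q, r} : Finset GolayPt) := hp ▸ by simp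
    simp only [Finset.mem_insert, Finset.mem_singleton] at this
    rcases this with h | h
    exacts [hpq h, hr1 h.symm]
  have hinjσ : Function.Injective σ0 := fun p q e => by_contra fun h => hne p q h e
  let σ : Equiv.Perm GolayPt := Equiv.ofBijective σ0 (Finite.injective_iff_bijective.1 hinjσ)
  have hkey : ∀ p q, f (dN p q) = dN (σ p) (σ q) := by
    intro p q
    by_cases h : p = q
    · subst h
      rw [(dN_facts p p).2.1 rfl, (dN_facts (σ p) (σ p)).2.1 rfl, hf0]
    refine psi_inj (hlt _ (dN_facts p q).1) (dN_facts _ _).1 ?_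
    rw [himg p q h, ((dN_facts (σ p) (σ q)).2.2 (fun e => h (σ.injective e))).2]
    congr 1
    refine (Finset.eq_of_subset_of_card_le (Finset.insert_subset (hσ0 p q h) (Finset.singleton_subset_iff.2 ?_)) ?_).symm
    · rw [himg_symm p q h]; exact hσ0 q p (Ne.symm h)
    · show (img p q h).card ≤ ({σ0 p, σ0 q} : Finset GolayPt).card
      rw [hcard, Finset.card_pair (hne p q h)]
  refine ⟨σ, Golay.mem_M24_iff.2 fun s hs => ?_, hkey⟩
  have hind : ∀ s : Finset GolayPt, ∃ n, n < 2048 ∧
      psi n = sy s ^^^ (if Even s.card then 0 else sy {(none : GolayPt)}) ∧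
      psi (f n) = sy (σ • s) ^^^ (if Even s.card then 0 else sy {σ none}) := by
    intro s
    induction s using Finset.induction_on with
    | empty =>
      have h0 : psi 0 = 0 := by decide +kernel
      exact ⟨0, by norm_num, by simp [h0, sy_empty], by simp [hf0, h0, sy_empty]⟩
    | insert p s hp ih =>
      obtain ⟨n, hn, e1, e2⟩ := ih
      have hd := dN_facts none p
      have hpair : ∀ a b : GolayPt, psi (dN a b) = sy {a} ^^^ sy {b} := by
        intro a b
        by_cases hab : a = b
        · subst hab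
          rw [(dN_facts a a).2.1 rfl, Nat.xor_self]; decide +kernel
        · rw [((dN_facts a b).2.2 hab).2, ← sy_symmDiff]
          congr 1
          ext x
          simp only [Finset.mem_symmDiff, Finset.mem_insert, Finset.mem_singleton]
          grind
      have hins : sy (insert p s) = sy s ^^^ sy {p} := by
        rw [← sy_symmDiff]
        congr 1
        ext x
        simp only [Finset.mem_symmDiff, Finset.mem_insert, Finset.mem_singleton]
        grind
      have hins' : sy (σ • insert p s) = sy (σ • s) ^^^ sy {σ p} := by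
        rw [← sy_symmDiff]
        congr 1
        ext x
        simp only [Finset.mem_symmDiff, Finset.mem_singleton, ← Finset.inv_smul_mem_iff, Finset.mem_insert]
        have : σ⁻¹ • x = p ↔ x = σ p := by
          rw [inv_smul_eq_iff]; rfl
        grind
      refine ⟨n ^^^ dN none p, Nat.xor_lt_two_pow (n := 11) hn hd.1, ?_, ?_⟩
      · rw [psi_xor hn hd.1, e1, hpair, hins, Finset.card_insert_of_notMem hp]
        by_cases hev : Even s.card
        · rw [if_pos hev, if_neg (by simpa [Nat.even_add_one] using hev), Nat.xor_zero]; ac_rfl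
        · rw [if_neg hev, if_pos (by simpa [Nat.even_add_one] using hev), Nat.xor_zero]
          simp [Nat.xor_assoc, Nat.xor_left_comm]
      · rw [hadd _ hn _ hd.1, psi_xor (hlt _ hn) (hlt _ hd.1), e2, hkey, hpair, hins', Finset.card_insert_of_notMem hp]
        by_cases hev : Even s.card
        · rw [if_pos hev, if_neg (by simpa [Nat.even_add_one] using hev), Nat.xor_zero]; ac_rfl
        · rw [if_neg hev, if_pos (by simpa [Nat.even_add_one] using hev), Nat.xor_zero]
          simp [Nat.xor_assoc, Nat.xor_left_comm]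
  obtain ⟨n, hn, e1, e2⟩ := hind s
  have hev : Even s.card := by
    obtain ⟨k, hk⟩ := Golay.four_dvd_card hs
    exact ⟨2 * k, by omega⟩
  rw [if_pos hev, Nat.xor_zero] at e1 e2
  rw [(sy_eq_zero s).2 hs] at e1
  have h00 : psi 0 = 0 := by decide +kernel
  obtain rfl := psi_inj hn (by norm_num) (e1.trans h00.symm)
  rw [hf0, h00] at e2
  exact (sy_eq_zero _).1 e2.symm

end Cfsg.Agent.Lib.Fi24Thompson95
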