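import Mathlib
import Cfsg.Agent.Lib.Fi24Thompson95.Duads
import Cfsg.Agent.Lib.Fi24Thompson95.Points
import Cfsg.Agent.Lib.Golay.Simple
import Cfsg.Agent.Lib.Golay.Transitive

/-!
The normaliser of `A` induces `M24` on the 24 points.
-/

set_option autoImplicit false

namespace Cfsg.Agent.Lib.Fi24Thompson95

open Cfsg Cfsg.Agent.Lib
open Cfsg.Agent.Lib.Fi24Type47 (Au mat ap enc dec kL fixK nuA getE)
open Cfsg.Agent.Lib.Fi24Type47.Rep (zC)
open Cfsg.Agent.Lib.Golay (idx pt)
open scoped Pointwise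

theorem span_ok : ((List.range 2048).all fun n =>
    (List.range 2048).any fun a => inD eT a && inD eT (a ^^^ n)) = true := by decide +kernel

theorem subgroup_M24_eq_top (K : Subgroup Cfsg.M24) (h : K.index ≤ 9) (h0 : K.index ≠ 0) : K = ⊤ := by
  haveI := Golay.isSimpleGroup_M24
  rcases Subgroup.Normal.eq_bot_or_eq_top (K.normalCore_normal) with e | e
  · exfalso
    have hd : Nat.card Cfsg.M24 ∣ Nat.card (Equiv.Perm (Cfsg.M24 ⧸ K)) := by
      refine Subgroup.card_dvd_of_injective (MulAction.toPermHom Cfsg.M24 (Cfsg.M24 ⧸ K)) ?_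
      rw [← MonoidHom.ker_eq_bot_iff, ← Subgroup.normalCore_eq_ker, e]
    rw [Nat.card_perm, ← Subgroup.index_eq_card, Golay.card_M24] at hd
    have h2 := (dvd_trans (by norm_num : (23 : ℕ) ∣ 244823040) hd).trans (Nat.factorial_dvd_factorial h)
    exact absurd h2 (by decide +kernel)
  · exact top_le_iff.1 (e ▸ K.normalCore_le)

variable {G : Type*} [Group G] [Finite G] {z : G} {Q : Subgroup (Subgroup.centralizer ({z} : Set G))} [Q.Normal]

/-- A frame with good lifts. -/
structure Model (F : Frame Q) where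
  S : Sec F
  good : ∀ j : Fin 4, ¬ S.chi (2 ^ (j : ℕ))

theorem exists_model (F : Frame Q) : Nonempty (Model F) := by
  obtain ⟨S0⟩ := exists_sec F
  obtain ⟨S, hS⟩ := Sec.exists_good S0
  exact ⟨⟨S, hS⟩⟩

namespace Model

variable {F : Frame Q} (W : Model F)

/-- The element with a code. -/
noncomputable def el (n : ℕ) : Subgroup.centralizer ({z} : Set G) :=
  if h : n < 2048 then (W.S.exists_code h).choose else 1

theorem el_spec {n : ℕ} (h : n < 2048) : W.el n ∈ F.A ∧ W.S.code (W.el n) = n := by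
  rw [el, dif_pos h]; exact (W.S.exists_code h).choose_spec

theorem el_code {a : Subgroup.centralizer ({z} : Set G)} (ha : a ∈ F.A) : W.el (W.S.code a) = a :=
  W.S.code_inj (W.el_spec (W.S.code_parts ha).2.2.2).1 ha (W.el_spec (W.S.code_parts ha).2.2.2).2

/-- The point duad as an element of `G`. -/
noncomputable def du (p q : GolayPt) : G := (W.el (dN p q) : G)

theorem exists_action (m : F.M) : ∃ σ ∈ Cfsg.M24, ∀ p q, (m : G) * W.du p q * (m : G)⁻¹ = W.du (σ p) (σ q) := by
  classical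
  have hc : ∀ n : ℕ, ∃ b ∈ F.A, (m : G) * (W.el n : G) * (m : G)⁻¹ = (b : G) := fun n => by
    have hA : W.el n ∈ F.A := by
      by_cases h : n < 2048
      · exact (W.el_spec h).1
      · rw [el, dif_neg h]; exact one_mem _
    obtain ⟨b, hb, e⟩ := (Subgroup.mem_normalizer_iff.1 m.2 _).1 (F.coe_mem_Ag.2 hA)
    exact ⟨b, hb, e.symm⟩
  choose b hb hbe using hc
  let f : ℕ → ℕ := fun n => W.S.code (b n)
  have hlt : ∀ n < 2048, f n < 2048 := fun n _ => (W.S.code_parts (hb n)).2.2.2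
  have hadd : ∀ a < 2048, ∀ c < 2048, f (a ^^^ c) = f a ^^^ f c := by
    intro a ha c hc'
    have hac : a ^^^ c < 2048 := Nat.xor_lt_two_pow (n := 11) ha hc'
    have e : W.el (a ^^^ c) = W.el a * W.el c := W.S.code_inj (W.el_spec hac).1
      (mul_mem (W.el_spec ha).1 (W.el_spec hc').1)
      (by rw [(W.el_spec hac).2, W.S.code_mul (W.el_spec ha).1 (W.el_spec hc').1, (W.el_spec ha).2, (W.el_spec hc').2])
    show W.S.code _ = W.S.code _ ^^^ W.S.code _
    rw [← W.S.code_mul (hb a) (hb c)]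
    congr 1
    refine Subtype.ext ?_
    rw [Subgroup.coe_mul, ← hbe, ← hbe, ← hbe, e, Subgroup.coe_mul]
    group
  have hinj : ∀ a < 2048, ∀ c < 2048, f a = f c → a = c := by
    intro a ha c hc' e
    have h := W.S.code_inj (hb a) (hb c) e
    have h2 : (m : G) * (W.el a : G) * (m : G)⁻¹ = (m : G) * (W.el c : G) * (m : G)⁻¹ := by rw [hbe, hbe, h]
    have h3 : W.el a = W.el c := Subtype.ext (mul_left_cancel (mul_right_cancel h2))
    rw [← (W.el_spec ha).2, ← (W.el_spec hc').2, h3]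
  have hD : ∀ n < 2048, inD eT n = true → inD eT (f n) = true := by
    intro n hn h
    rw [← (W.el_spec hn).2, W.S.inD_eT W.good (W.el_spec hn).1] at h
    rw [W.S.inD_eT W.good (hb n), ← hbe n]
    exact F.conj_Dg m.2 h
  obtain ⟨σ, hσ, hk⟩ := exists_perm f hlt hadd hinj hD
  refine ⟨σ, hσ, fun p q => ?_⟩
  show (m : G) * (W.el _ : G) * (m : G)⁻¹ = (W.el _ : G)
  rw [hbe, ← hk p q, W.el_code (hb _)]

theorem du_inj {p q r t : GolayPt} (h : W.du p q = W.du r t) (hpq : p ≠ q) (hrt : r ≠ t) :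
    ({p, q} : Finset GolayPt) = {r, t} := by
  have e : dN p q = dN r t := by
    rw [← (W.el_spec (dN_facts p q).1).2, ← (W.el_spec (dN_facts r t).1).2]
    exact congrArg W.S.code (Subtype.ext h)
  refine eq_of_sy ?_ (by rw [Finset.card_pair hpq, Finset.card_pair hrt]; norm_num)
  rw [← ((dN_facts p q).2.2 hpq).2, ← ((dN_facts r t).2.2 hrt).2, e]

theorem action_unique {σ τ : Equiv.Perm GolayPt} (h : ∀ p q, W.du (σ p) (σ q) = W.du (τ p) (τ q)) : σ = τ := by
  refine Equiv.ext fun p => ?_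
  obtain ⟨q, hq, -⟩ := exists_third p p
  obtain ⟨r, hr, hrq⟩ := exists_third p q
  have e1 := W.du_inj (h p q) (fun e => hq (σ.injective e).symm) (fun e => hq (τ.injective e).symm)
  have e2 := W.du_inj (h p r) (fun e => hr (σ.injective e).symm) (fun e => hr (τ.injective e).symm)
  have h1 : σ p ∈ ({τ p, τ q} : Finset GolayPt) := e1 ▸ by simp
  have h2 : σ p ∈ ({τ p, τ r} : Finset GolayPt) := e2 ▸ by simp
  simp only [Finset.mem_insert, Finset.mem_singleton] at h1 h2
  rcases h1 with e | e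
  · exact e
  rcases h2 with e' | e'
  · exact e'
  exact absurd (τ.injective (e'.symm.trans e)) hrq

/-- The action on the points. -/
noncomputable def π : F.M →* Equiv.Perm GolayPt where
  toFun m := (W.exists_action m).choose
  map_one' := W.action_unique fun p q => by
    rw [← (W.exists_action 1).choose_spec.2, Subgroup.coe_one]
    simp
  map_mul' m n := W.action_unique fun p q => by
    rw [← (W.exists_action (m * n)).choose_spec.2, Equiv.Perm.mul_apply, Equiv.Perm.mul_apply,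
      ← (W.exists_action m).choose_spec.2, ← (W.exists_action n).choose_spec.2, Subgroup.coe_mul]
    group

theorem π_spec (m : F.M) : W.π m ∈ Cfsg.M24 ∧
    ∀ p q, (m : G) * W.du p q * (m : G)⁻¹ = W.du (W.π m p) (W.π m q) :=
  (W.exists_action m).choose_spec

/-- Every element of `A` outside `1` and the class of `z` is a point duad. -/
theorem exists_du {t : G} (ht : t ∈ F.Dg) : ∃ p q, p ≠ q ∧ t = W.du p q := by
  obtain ⟨a, ha, rfl⟩ := ht.1
  have h := (W.S.inD_eT W.good ha).2 ht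
  obtain ⟨p, q, hpq, e⟩ := exists_dN (W.S.code_parts ha).2.2.2 h
  refine ⟨p, q, hpq, ?_⟩
  show (a : G) = _
  rw [du, ← e, W.el_code ha]

theorem ker_π : W.π.ker = F.Ag.subgroupOf F.M := by
  ext m
  rw [MonoidHom.mem_ker, Subgroup.mem_subgroupOf]
  constructor
  · intro h
    have hfix : ∀ p q, (m : G) * W.du p q * (m : G)⁻¹ = W.du p q := fun p q => by
      rw [(W.π_spec m).2, h]; rfl
    have hall : ∀ a ∈ F.A, (m : G) * (a : G) = (a : G) * m := by
      intro a ha
      have hlt := (W.S.code_parts ha).2.2.2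
      obtain ⟨n, hn, hn'⟩ := List.any_eq_true.1 (List.all_eq_true.1 span_ok (W.S.code a) (List.mem_range.2 hlt))
      rw [Bool.and_eq_true] at hn'
      have hn2 := List.mem_range.1 hn
      have hn3 : n ^^^ W.S.code a < 2048 := Nat.xor_lt_two_pow (n := 11) hn2 hlt
      obtain ⟨p, q, -, e1⟩ := exists_dN hn2 hn'.1
      obtain ⟨r, t, -, e2⟩ := exists_dN hn3 hn'.2
      have e : a = W.el n * W.el (n ^^^ W.S.code a) := W.S.code_inj ha (mul_mem (W.el_spec hn2).1 (W.el_spec hn3).1) (by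
        rw [W.S.code_mul (W.el_spec hn2).1 (W.el_spec hn3).1, (W.el_spec hn2).2, (W.el_spec hn3).2, ← Nat.xor_assoc,
          Nat.xor_self, Nat.zero_xor])
      refine mul_inv_eq_iff_eq_mul.1 ?_
      have h1 : (m : G) * (W.el n : G) * (m : G)⁻¹ = (W.el n : G) := by
        have h' := hfix p q
        rwa [du, ← e1] at h'
      have h2 : (m : G) * (W.el (n ^^^ W.S.code a) : G) * (m : G)⁻¹ = (W.el (n ^^^ W.S.code a) : G) := by
        have h' := hfix r t
        rwa [du, ← e2] at h'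
      rw [e, Subgroup.coe_mul]
      calc (m : G) * ((W.el n : G) * (W.el (n ^^^ W.S.code a) : G)) * (m : G)⁻¹
          = (m : G) * (W.el n : G) * (m : G)⁻¹ * ((m : G) * (W.el (n ^^^ W.S.code a) : G) * (m : G)⁻¹) := by group
        _ = _ := by rw [h1, h2]
    obtain ⟨a, ha, e⟩ := F.cent_A hall
    exact ⟨a, ha, e⟩
  · rintro ⟨a, ha, e⟩
    refine W.action_unique fun p q => ?_
    rw [← (W.π_spec m).2, ← e]
    show (a : G) * (W.el (dN p q) : G) * (a : G)⁻¹ = (W.el (dN p q) : G)
    rw [← Subgroup.coe_mul, F.A_comm ha (W.el_spec (dN_facts p q).1).1, Subgroup.coe_mul, mul_inv_cancel_right]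

include W in
theorem fifteen_dvd : 15 ∣ Nat.card ↥(F.M.subgroupOf (Subgroup.centralizer ({z} : Set G))) := by
  classical
  set N := F.M.subgroupOf (Subgroup.centralizer ({z} : Set G))
  letI : MulAction N Au := MulAction.compHom Au
    ((ConjAct.toConjAct.toMonoidHom.comp F.R.img).comp N.subtype)
  have hsmul : ∀ (h : N) (f : Au), h • f = F.R.img h.1 * f * (F.R.img h.1)⁻¹ := fun _ _ => rfl
  set a1 := W.S.sec 1
  have ha1 := W.S.sec_mem (c := 1)
  set P : ℕ → Prop := fun k => (k < 16 ∧ k ≠ 0) ∧ ∀ a ∈ F.A, F.cN a = k → F.R.img a ∈ MulAction.orbit N (F.R.img a1)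
  have hz0 : ∀ c < 16, c ≠ 0 → perm1.getD c 0 = perm1.getD c 16 ∧ perm1.getD c 16 ≠ 0 ∧ perm1.getD c 16 < 16 ∧
      perm2.getD c 0 = perm2.getD c 16 ∧ perm2.getD c 16 ≠ 0 ∧ perm2.getD c 16 < 16 := by decide +kernel
  have himg : ∀ a ∈ F.A, ∀ b ∈ F.A, F.cN a = F.cN b → F.R.img a = F.R.img b := fun a ha b hb e =>
    Fi24Type47.mat_inj (by rw [← F.cN_img ha, ← F.cN_img hb, e])
  have step : ∀ w p, (w, p) ∈ [(word1, perm1), (word2, perm2)] → ∀ j, P j → ∀ a ∈ F.A, F.cN a = p.getD j 16 →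
      F.R.img a ∈ MulAction.orbit N (F.R.img a1) := by
    intro w p hwp j hj a ha hca
    obtain ⟨h, -, hA, -, hp⟩ := F.exists_mover hwp
    have hb := W.S.sec_mem (c := j)
    have hbc := W.S.sec_cN hj.1.1
    obtain ⟨u, hu⟩ := hj.2 _ hb hbc
    refine ⟨⟨h, F.mem_M_of_norm hA⟩ * u, ?_⟩
    show (_ * u) • F.R.img a1 = _
    rw [mul_smul, show u • F.R.img a1 = F.R.img (W.S.sec j) from hu, hsmul]
    show F.R.img h * _ * (F.R.img h)⁻¹ = _
    rw [← map_inv, ← map_mul, ← map_mul]
    exact himg _ (hA _ hb) _ ha (by rw [hp _ hb, hbc, hca])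
  have key : ∀ (L : List ℕ) (s : List ℕ), (∀ k ∈ s, P k) →
      ∀ k ∈ L.foldl (fun s _ => (s ++ s.map (fun k => perm1.getD k 0) ++ s.map fun k => perm2.getD k 0).dedup) s,
        P k := by
    intro L
    induction L with
    | nil => exact fun s hs k hk => hs k hk
    | cons i L ih =>
      intro s hs
      refine ih _ fun k hk => ?_
      rw [List.mem_dedup, List.mem_append, List.mem_append] at hk
      rcases hk with (hk | hk) | hk
      · exact hs k hk
      · obtain ⟨j, hj, rfl⟩ := List.mem_map.1 hk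
        obtain ⟨e1, e2, e3, -, -, -⟩ := hz0 j (hs j hj).1.1 (hs j hj).1.2
        rw [e1]
        exact ⟨⟨e3, e2⟩, step word1 perm1 (by simp) j (hs j hj)⟩
      · obtain ⟨j, hj, rfl⟩ := List.mem_map.1 hk
        obtain ⟨-, -, -, e1, e2, e3⟩ := hz0 j (hs j hj).1.1 (hs j hj).1.2
        rw [e1]
        exact ⟨⟨e3, e2⟩, step word2 perm2 (by simp) j (hs j hj)⟩
  have hP : ∀ c, c < 16 → c ≠ 0 → ∀ a ∈ F.A, F.cN a = c → F.R.img a ∈ MulAction.orbit N (F.R.img a1) := by
    intro c hc h0
    have hmem := List.all_eq_true.1 perms_transitive (c - 1) (List.mem_range.2 (by omega))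
    rw [show c - 1 + 1 = c by omega] at hmem
    exact (key _ [1] (fun k hk => by
      rw [List.mem_singleton.1 hk]
      exact ⟨⟨by norm_num, by norm_num⟩, fun a ha hca =>
        ⟨1, by show (1 : N) • F.R.img a1 = _; rw [one_smul]; exact himg _ ha1 _ ha (by rw [W.S.sec_cN (by norm_num), hca])⟩⟩) c
      (List.contains_iff_mem.1 hmem)).2
  have horb : MulAction.orbit N (F.R.img a1) = (fun c => F.R.img (W.S.sec c)) '' (Finset.Ico 1 16 : Finset ℕ) := by
    ext f
    constructor
    · rintro ⟨h, rfl⟩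
      have hmem : h.1 * a1 * h.1⁻¹ ∈ F.A := by
        obtain ⟨b, hb, e⟩ := (Subgroup.mem_normalizer_iff.1 (Subgroup.mem_subgroupOf.1 h.2) _).1 (F.coe_mem_Ag.2 ha1)
        rwa [show h.1 * a1 * h.1⁻¹ = b from Subtype.ext e.symm]
      refine ⟨F.cN (h.1 * a1 * h.1⁻¹), ?_, ?_⟩
      · refine Finset.mem_coe.2 (Finset.mem_Ico.2 ⟨Nat.one_le_iff_ne_zero.2 fun e => ?_, F.cN_lt hmem⟩)
        have hq := (inferInstance : Q.Normal).conj_mem _ (F.mem_Q_of_cN hmem e) h.1⁻¹
        rw [inv_inv, show h.1⁻¹ * (h.1 * a1 * h.1⁻¹) * h.1 = a1 by group] at hq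
        have h1 := F.cN_of_mem_Q hq
        rw [W.S.sec_cN (by norm_num)] at h1
        exact one_ne_zero h1
      · show F.R.img _ = h • F.R.img a1
        rw [hsmul, ← map_inv, ← map_mul, ← map_mul]
        exact himg _ (W.S.sec_mem _) _ hmem (W.S.sec_cN (F.cN_lt hmem))
    · rintro ⟨c, hc, rfl⟩
      rw [Finset.mem_coe, Finset.mem_Ico] at hc
      exact hP c hc.2 (by omega) _ (W.S.sec_mem c) (W.S.sec_cN hc.2)
  have hcard : Nat.card (MulAction.orbit N (F.R.img a1)) = 15 := by
    rw [Nat.card_coe_set_eq, horb, Set.InjOn.ncard_image, Set.ncard_coe_finset, Nat.card_Ico]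
    intro c hc d hd e
    rw [Finset.mem_coe, Finset.mem_Ico] at hc hd
    have := congrArg mat e
    rw [← W.S.sec_cN hc.2, ← W.S.sec_cN hd.2]
    show kCL.idxOf (mat (F.R.img (W.S.sec c))) = kCL.idxOf (mat (F.R.img (W.S.sec d)))
    rw [this]
  exact ⟨_, by
    rw [← hcard, ← Nat.card_prod]
    exact (Nat.card_congr (MulAction.orbitProdStabilizerEquivGroup N (F.R.img a1))).symm⟩

theorem card_H (F : Frame Q) : Nat.card (Subgroup.centralizer ({z} : Set G)) = 19595520 * 2 ^ 13 := by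
  rw [Subgroup.card_eq_card_quotient_mul_card_subgroup Q, F.R.D.card_L, F.R.D.card]

include W in
/-- The action is onto `M24`. -/
theorem range_π : W.π.range = Cfsg.M24 := by
  classical
  haveI : Fact (Nat.Prime 2) := ⟨Nat.prime_two⟩
  have hle : W.π.range ≤ Cfsg.M24 := by
    rintro _ ⟨m, rfl⟩; exact (W.π_spec m).1
  set H := Subgroup.centralizer ({z} : Set G)
  set N := F.M.subgroupOf H
  have hN : 15 * 2 ^ 21 ∣ Nat.card N := by
    refine Nat.Coprime.mul_dvd_of_dvd_of_dvd (by norm_num) W.fifteen_dvd ?_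
    have hT : (F.T : Subgroup H) ≤ N := fun t ht => F.mem_M_of_norm fun a ha => F.norm_T ht ha
    refine dvd_trans ?_ (Subgroup.card_dvd_of_le hT)
    exact Sylow.pow_dvd_card_of_pow_dvd_card F.T (by rw [card_H F]; norm_num)
  have hM : 1771 * Nat.card N = Nat.card F.M := by
    letI : MulAction F.M G := MulAction.compHom G (ConjAct.toConjAct.toMonoidHom.comp F.M.subtype)
    have hsmul : ∀ (m : F.M) (a : G), m • a = (m : G) * a * (m : G)⁻¹ := fun _ _ => rfl
    have he : {a : G | a ∈ F.Ag ∧ IsConj z a} = MulAction.orbit F.M z := by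
      ext a
      constructor
      · rintro ⟨ha, hc⟩
        obtain ⟨g, hg⟩ := isConj_iff.1 hc
        obtain ⟨m, hm, e⟩ := F.fusion F.z_mem_Ag (g := g) (by rw [hg]; exact ha)
        exact ⟨⟨m, hm⟩, by show (⟨m, hm⟩ : F.M) • z = a; rw [hsmul, ← hg]; exact e⟩
      · rintro ⟨m, rfl⟩
        show m • z ∈ F.Ag ∧ IsConj z (m • z)
        rw [hsmul]
        exact ⟨(Subgroup.mem_normalizer_iff.1 m.2 z).1 F.z_mem_Ag, isConj_iff.2 ⟨m, rfl⟩⟩
    have hst : Nat.card (MulAction.stabilizer F.M z) = Nat.card N := by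
      refine Nat.card_congr
        { toFun := fun m => ⟨⟨(m.1 : G), Subgroup.mem_centralizer_singleton_iff.2 ?_⟩, Subgroup.mem_subgroupOf.2 m.1.2⟩
          invFun := fun h => ⟨⟨(h.1 : G), Subgroup.mem_subgroupOf.1 h.2⟩, ?_⟩
          left_inv := fun _ => rfl
          right_inv := fun _ => rfl }
      · have h : (m.1 : F.M) • z = z := m.2
        rw [hsmul] at h
        exact mul_inv_eq_iff_eq_mul.1 h
      · rw [MulAction.mem_stabilizer_iff, hsmul]
        exact mul_inv_eq_iff_eq_mul.2 (Subgroup.mem_centralizer_singleton_iff.1 h.1.2)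
    have h1 := (W.S.shape).1
    rw [he, ← Nat.card_coe_set_eq] at h1
    rw [← h1, ← hst, ← Nat.card_prod]
    exact Nat.card_congr (MulAction.orbitProdStabilizerEquivGroup F.M z)
  have hrange : Nat.card W.π.range * 2 ^ 11 = Nat.card F.M := by
    rw [← W.π.ker.card_mul_index, Subgroup.index_ker, W.ker_π,
      Nat.card_congr (Subgroup.subgroupOfEquivOfLe (Subgroup.le_normalizer : F.Ag ≤ F.M)).toEquiv, F.card_Ag, mul_comm]
  have h9 : 1771 * 15 * 2 ^ 10 ∣ Nat.card W.π.range := by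
    obtain ⟨k, hk⟩ := hN
    rw [hk] at hM
    refine ⟨k, ?_⟩
    have := hrange.trans hM.symm
    omega
  have hdvd : Nat.card W.π.range ∣ 244823040 := Golay.card_M24 ▸ Subgroup.card_dvd_of_le hle
  set K := W.π.range.subgroupOf Cfsg.M24
  have hK : K = ⊤ := by
    have hcK : Nat.card K = Nat.card W.π.range := Nat.card_congr (Subgroup.subgroupOfEquivOfLe hle).toEquiv
    have hmul := K.card_mul_index
    rw [hcK, Golay.card_M24] at hmul
    obtain ⟨k, hk⟩ := h9
    have hne : K.index ≠ 0 := fun e => by rw [e] at hmul; omega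
    refine subgroup_M24_eq_top K ?_ hne
    rw [hk] at hmul
    have hk1 : 1 ≤ k := by
      rcases Nat.eq_zero_or_pos k with rfl | h
      · simp at hmul
      · exact h
    have : 1771 * 15 * 2 ^ 10 * (k * K.index) = 244823040 := by rw [← hmul]; ring
    have h3 : k * K.index = 9 := by omega
    calc K.index ≤ k * K.index := Nat.le_mul_of_pos_left _ hk1
      _ = 9 := h3
  exact le_antisymm hle (Subgroup.subgroupOf_eq_top.1 hK)

include W in
/-- The quotient is `M24`. -/
theorem quotient_iso (A M : Subgroup G) (hA : A = F.Ag) (hM : M = F.M) :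
    ∃ _ : (A.subgroupOf M).Normal, Nonempty (↥M ⧸ A.subgroupOf M ≃* ↥Cfsg.M24) := by
  subst hA hM
  have hn : (F.Ag.subgroupOf F.M).Normal := W.ker_π ▸ W.π.normal_ker
  refine ⟨hn, ⟨?_⟩⟩
  exact ((QuotientGroup.quotientMulEquivOfEq W.ker_π.symm).trans (QuotientGroup.quotientKerEquivRange W.π)).trans
    (MulEquiv.subgroupCongr W.range_π)

include W in
/-- The centraliser of an element outside the class of `z`. -/
theorem stab_iso (A M : Subgroup G) (hA : A = F.Ag) (hM : M = F.M) {t : G} (ht : t ∈ F.Dg) :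
    ∃ _ : (A.subgroupOf (M ⊓ Subgroup.centralizer ({t} : Set G))).Normal,
      Nonempty (↥(M ⊓ Subgroup.centralizer ({t} : Set G)) ⧸ A.subgroupOf (M ⊓ Subgroup.centralizer ({t} : Set G)) ≃*
        ↥(Cfsg.M24 ⊓ MulAction.stabilizer (Equiv.Perm GolayPt) ({none, some 0} : Set GolayPt))) := by
  classical
  subst hA hM
  obtain ⟨p, q, hpq, rfl⟩ := W.exists_du ht
  set C := Subgroup.centralizer ({W.du p q} : Set G)
  obtain ⟨g, hg, hmap⟩ := Golay.exists_map_list [p, q] [none, some 0] rfl (by norm_num) (by simp [hpq])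
    (by decide)
  simp only [List.map_cons, List.map_nil, List.cons.injEq, and_true] at hmap
  obtain ⟨hgp, hgq⟩ := hmap
  let ψ : ↥(F.M ⊓ C) →* Equiv.Perm GolayPt :=
    (MulAut.conj g).toMonoidHom.comp (W.π.comp (Subgroup.inclusion inf_le_left))
  have hker : ψ.ker = F.Ag.subgroupOf (F.M ⊓ C) := by
    ext m
    rw [MonoidHom.mem_ker, show ψ m = (MulAut.conj g) (W.π (Subgroup.inclusion inf_le_left m)) from rfl,
      MulEquiv.map_eq_one_iff, ← MonoidHom.mem_ker, W.ker_π, Subgroup.mem_subgroupOf, Subgroup.mem_subgroupOf]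
    rfl
  have hstab : ∀ (σ : Equiv.Perm GolayPt) (a b : GolayPt), σ ∈ MulAction.stabilizer _ ({a, b} : Set GolayPt) ↔
      ({σ a, σ b} : Set GolayPt) = {a, b} := fun σ a b => by
    rw [MulAction.mem_stabilizer_iff, ← Set.image_smul, Set.image_pair]; rfl
  have hfix : ∀ m : F.M, (m : G) ∈ C ↔ ({W.π m p, W.π m q} : Set GolayPt) = {p, q} := by
    intro m
    rw [Subgroup.mem_centralizer_singleton_iff, ← mul_inv_eq_iff_eq_mul, (W.π_spec m).2]
    constructor
    · intro h
      have h' := congrArg (fun s : Finset GolayPt => (s : Set GolayPt))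
        (W.du_inj h (fun e => hpq ((W.π m).injective e)) hpq)
      simpa using h'
    · intro h
      have hp : W.π m p = p ∨ W.π m p = q := by simpa using h.subset (Set.mem_insert _ _)
      have hq : W.π m q = p ∨ W.π m q = q := by simpa using h.subset (Set.mem_insert_of_mem _ rfl)
      have hne : W.π m p ≠ W.π m q := fun e => hpq ((W.π m).injective e)
      rcases hp with e | e <;> rcases hq with e' | e' <;> rw [e, e']
      · exact absurd (e.trans e'.symm) hne
      · show (W.el (dN q p) : G) = (W.el (dN p q) : G)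
        rw [dN_symm]
      · exact absurd (e.trans e'.symm) hne
  have hrange : ψ.range = Cfsg.M24 ⊓ MulAction.stabilizer (Equiv.Perm GolayPt) ({none, some 0} : Set GolayPt) := by
    ext τ
    constructor
    · rintro ⟨m, rfl⟩
      have hm := (W.π_spec (Subgroup.inclusion inf_le_left m)).1
      refine ⟨Cfsg.M24.mul_mem (Cfsg.M24.mul_mem hg hm) (Cfsg.M24.inv_mem hg), (hstab _ _ _).2 ?_⟩
      have h := (hfix (Subgroup.inclusion inf_le_left m)).1 m.2.2
      show ({g (W.π _ (g⁻¹ none)), g (W.π _ (g⁻¹ (some 0)))} : Set GolayPt) = _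
      rw [← hgp, ← hgq, Equiv.Perm.inv_def, Equiv.symm_apply_apply, Equiv.symm_apply_apply, ← Set.image_pair, h, Set.image_pair]
    · rintro ⟨hτ, hτs⟩
      obtain ⟨m, hm⟩ : g⁻¹ * τ * g ∈ W.π.range := W.range_π.symm ▸ mul_mem (mul_mem (inv_mem hg) hτ) hg
      have hmC : (m : G) ∈ C := by
        rw [hfix, hm]
        have h := (hstab _ _ _).1 hτs
        show ({g⁻¹ (τ (g p)), g⁻¹ (τ (g q))} : Set GolayPt) = _
        rw [hgp, hgq, ← Set.image_pair, h, Set.image_pair, ← hgp, ← hgq, Equiv.Perm.inv_def, Equiv.symm_apply_apply,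
          Equiv.symm_apply_apply]
      refine ⟨⟨m, m.2, hmC⟩, ?_⟩
      show g * W.π m * g⁻¹ = τ
      rw [hm]; group
  have hn : (F.Ag.subgroupOf (F.M ⊓ C)).Normal := hker ▸ ψ.normal_ker
  exact ⟨hn, ⟨((QuotientGroup.quotientMulEquivOfEq hker.symm).trans (QuotientGroup.quotientKerEquivRange ψ)).trans
    (MulEquiv.subgroupCongr hrange)⟩⟩

end Model

/-- Transport to any Sylow 2-subgroup. -/
theorem exists_model_at (hF : Cfsg.IsOfLargeFischerTypeAt z Q) (T : Sylow 2 G) :
    ∃ (F : Frame Q) (_ : Model F) (g : G),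
      Cfsg.thompsonSubgroupOf 2 (T : Subgroup G) = F.Ag.map (MulAut.conj g).toMonoidHom := by
  obtain ⟨F⟩ := exists_frame hF
  obtain ⟨W⟩ := exists_model F
  obtain ⟨g, hg⟩ := F.thompson_eq T
  exact ⟨F, W, g, hg⟩

end Cfsg.Agent.Lib.Fi24Thompson95
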