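import Mathlib

/-!
Quotients transported by an automorphism.
-/

set_option autoImplicit false

namespace Cfsg.Agent.Lib.Fi24Thompson95

variable {G : Type*} [Group G]

theorem map_normalizer_aut (e : G ≃* G) (A : Subgroup G) :
    (Subgroup.normalizer (A : Set G)).map e.toMonoidHom = Subgroup.normalizer ((A.map e.toMonoidHom : Subgroup G) : Set G) := by
  ext x
  obtain ⟨y, rfl⟩ := e.surjective x
  have h1 : ∀ u, e u ∈ A.map e.toMonoidHom ↔ u ∈ A := fun u => Subgroup.mem_map_iff_mem e.injective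
  rw [show e y = e.toMonoidHom y from rfl, Subgroup.mem_map_iff_mem e.injective, Subgroup.mem_normalizer_iff,
    Subgroup.mem_normalizer_iff]
  constructor
  · intro h u
    obtain ⟨v, rfl⟩ := e.surjective u
    show e v ∈ _ ↔ e y * e v * (e y)⁻¹ ∈ _
    rw [← map_inv, ← map_mul, ← map_mul, h1, h1]
    exact h v
  · intro h v
    have h' := h (e v)
    change e v ∈ _ ↔ e y * e v * (e y)⁻¹ ∈ _ at h'
    rw [← map_inv, ← map_mul, ← map_mul, h1, h1] at h'
    exact h'

theorem map_centralizer_aut (e : G ≃* G) (t : G) :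
    (Subgroup.centralizer ({t} : Set G)).map e.toMonoidHom = Subgroup.centralizer ({e t} : Set G) := by
  ext x
  obtain ⟨y, rfl⟩ := e.surjective x
  rw [show e y = e.toMonoidHom y from rfl, Subgroup.mem_map_iff_mem e.injective,
    Subgroup.mem_centralizer_singleton_iff, Subgroup.mem_centralizer_singleton_iff]
  show y * t = t * y ↔ e y * e t = e t * e y
  rw [← map_mul, ← map_mul, e.injective.eq_iff]

/-- A quotient and its transport. -/
theorem quot_transport {H : Type*} [Group H] (e : G ≃* G) (A N : Subgroup G)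
    (h : ∃ _ : (A.subgroupOf N).Normal, Nonempty (↥N ⧸ A.subgroupOf N ≃* H)) :
    ∃ _ : ((A.map e.toMonoidHom).subgroupOf (N.map e.toMonoidHom)).Normal,
      Nonempty (↥(N.map e.toMonoidHom) ⧸ (A.map e.toMonoidHom).subgroupOf (N.map e.toMonoidHom) ≃* H) := by
  obtain ⟨hn, ⟨φ⟩⟩ := h
  let eN : N ≃* ↥(N.map e.toMonoidHom) := N.equivMapOfInjective _ e.injective
  have hmap : (A.subgroupOf N).map eN.toMonoidHom = (A.map e.toMonoidHom).subgroupOf (N.map e.toMonoidHom) := by
    ext x
    constructor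
    · rintro ⟨a, ha, rfl⟩
      exact ⟨a, ha, rfl⟩
    · intro hx
      obtain ⟨a, ha, hae⟩ := hx
      obtain ⟨n, rfl⟩ := eN.surjective x
      have h2 : a = (n : G) := e.injective hae
      subst h2
      exact ⟨n, Subgroup.mem_subgroupOf.2 ha, rfl⟩
  have hn' : ((A.map e.toMonoidHom).subgroupOf (N.map e.toMonoidHom)).Normal :=
    hmap ▸ hn.map eN.toMonoidHom eN.surjective
  exact ⟨hn', ⟨(QuotientGroup.congr _ _ eN hmap).symm.trans φ⟩⟩

end Cfsg.Agent.Lib.Fi24Thompson95
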